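import Cfsg.Agent.Lib.CITReduce.Basic
import Cfsg.Agent.Lib.CNGroup.EvenTI
import Cfsg.Agent.Lib.CNGroup.Quotient
import Cfsg.Agent.Lib.Induced.FrobeniusKernel
import Cfsg.Agent.Lib.Frobenius.Basic

/-!
# Nonsolvable CN-groups are CIT-groups

Owner: helper32.
-/

set_option autoImplicit false
set_option linter.style.haveILetI false
set_option linter.unusedSectionVars false

namespace Cfsg.Agent.Lib.CNReduce32

open Subgroup
open Cfsg.Agent.Lib
open Cfsg.Agent.Lib.CNGroup.Basic Cfsg.Agent.Lib.CNGroup.MaxNilpotent Cfsg.Agent.Lib.CNGroup.EvenTI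
open Cfsg.Agent.Lib.Involutions.Basic

universe u

variable {G : Type u} [Group G] [Finite G]

theorem isSolvable_of_quotient (N : Subgroup G) [N.Normal] (hN : Group.IsSolvable N)
    (hq : Group.IsSolvable (G ⧸ N)) : Group.IsSolvable G :=
  haveI := hN; haveI := hq
  Group.isSolvable_of_ker_le_range N.subtype (QuotientGroup.mk' N) (by
    rw [QuotientGroup.ker_mk', Subgroup.range_subtype])

/-- Two commuting subgroups of a CN-group are not both nonsolvable. -/
theorem isSolvable_of_commute (hCN : Cfsg.IsCNGroup G) (A B : Subgroup G)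
    (hc : ∀ a ∈ A, ∀ b ∈ B, Commute a b) (hA : ¬ Group.IsSolvable A) : Group.IsSolvable B := by
  obtain ⟨a, ha, ha1⟩ := A.bot_or_exists_ne_one.resolve_left (by rintro rfl; exact hA inferInstance)
  haveI := isNilpotent_mono (H := B) (fun b hb => mem_centralizer_singleton_iff.2 (hc a ha b hb).symm)
    (hCN a ha1)
  infer_instance

/-- A nonsolvable CN-group has no nontrivial abelian normal subgroup of odd prime power order. -/
theorem eq_bot_of_abelian (hCN : Cfsg.IsCNGroup G) (hns : ¬ Group.IsSolvable G) (V : Subgroup G)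
    [V.Normal] {p : ℕ} (hp : p.Prime) (hp2 : p ≠ 2) (hV : IsPGroup p V)
    (hab : ∀ a ∈ V, ∀ b ∈ V, a * b = b * a) : V = ⊥ := by
  by_contra hV1
  haveI : Fact p.Prime := ⟨hp⟩
  haveI : Fact (Nat.Prime 2) := ⟨Nat.prime_two⟩
  set C := centralizer (V : Set G) with hC
  haveI : C.Normal := Subgroup.normal_centralizer
  obtain ⟨v0, hv0, hv01⟩ := V.bot_or_exists_ne_one.resolve_left hV1
  have hCnil : Group.IsNilpotent C := isNilpotent_mono
    (fun c hc => mem_centralizer_singleton_iff.2 (mem_centralizer_iff.1 hc v0 hv0).symm) (hCN v0 hv01)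
  haveI := hCnil
  have key : ∀ (t z : G) (k : ℕ), orderOf t = 2 ^ k → z ≠ 1 → t * z = z * t →
      (∀ v ∈ V, v * z = z * v) → t ∈ C := by
    intro t z k ht hz hc hVz
    refine mem_centralizer_iff.2 fun v hv => ?_
    obtain ⟨j, hj⟩ := IsPGroup.iff_orderOf.1 hV ⟨v, hv⟩
    rw [Subgroup.orderOf_mk] at hj
    exact commute_of_common hCN hz (hVz v hv) hc
      (coprime_of_pGroup_elements hp Nat.prime_two hp2 hj ht)
  obtain ⟨T⟩ := (inferInstance : Nonempty (Sylow 2 G))
  have hCsol : Group.IsSolvable C := inferInstance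
  -- `C` has odd order
  have hCodd : ∀ z ∈ C, orderOf z ≠ 2 := by
    intro z hz hzo
    obtain ⟨w, hw, hwo, hwc⟩ := exists_central_orderOf hCnil Nat.prime_two
      (hzo ▸ orderOf_dvd_natCard C hz)
    let W : Subgroup G :=
      { carrier := {x | x ∈ C ∧ (∀ c ∈ C, c * x = x * c) ∧ x * x = 1}
        one_mem' := ⟨one_mem C, fun c _ => by simp, one_mul 1⟩
        mul_mem' := fun {a b} ha hb => ⟨mul_mem ha.1 hb.1, fun c hc => by
          rw [← mul_assoc, ha.2.1 c hc, mul_assoc, hb.2.1 c hc, mul_assoc], by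
          calc a * b * (a * b) = a * (b * a * b) := by group
            _ = a * (a * b * b) := by rw [ha.2.1 b hb.1]
            _ = (a * a) * (b * b) := by group
            _ = 1 := by rw [ha.2.2, hb.2.2, one_mul]⟩
        inv_mem' := fun {a} ha => by
          rw [Set.mem_setOf_eq, inv_eq_of_mul_eq_one_left ha.2.2]
          exact ha }
    haveI : W.Normal := ⟨fun x hx g => ⟨‹C.Normal›.conj_mem x hx.1 g, fun c hc => by
      have h1 := hx.2.1 _ (‹C.Normal›.conj_mem c hc g⁻¹)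
      calc c * (g * x * g⁻¹) = g * (g⁻¹ * c * g⁻¹⁻¹ * x) * g⁻¹ := by group
        _ = g * (x * (g⁻¹ * c * g⁻¹⁻¹)) * g⁻¹ := by rw [h1]
        _ = _ := by group, by
      calc g * x * g⁻¹ * (g * x * g⁻¹) = g * (x * x) * g⁻¹ := by group
        _ = 1 := by rw [hx.2.2]; group⟩⟩
    have hW2 : IsPGroup 2 W := fun x => ⟨1, Subtype.ext (by
      rw [pow_one, pow_two]; exact x.2.2.2)⟩
    have hwW : w ∈ W := ⟨hw, hwc, by rw [← pow_two, ← hwo, pow_orderOf_eq_one]⟩
    have hW1 : W ≠ ⊥ := fun e => by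
      rw [e, mem_bot] at hwW
      rw [hwW, orderOf_one] at hwo
      omega
    have hTC : (T : Subgroup G) ≤ C := by
      intro t ht
      obtain ⟨k, hk⟩ := IsPGroup.iff_orderOf.1 T.isPGroup' ⟨t, ht⟩
      rw [Subgroup.orderOf_mk] at hk
      obtain ⟨x, hx, hx1, hxc⟩ := exists_fixed_of_pElement hk hW2 hW1
      exact key t x k hk hx1 hxc fun v hv => mem_centralizer_iff.1 hx.1 v hv
    have hodd : Odd (Nat.card (G ⧸ C)) := by
      rw [← Subgroup.index_eq_card]
      refine Nat.not_even_iff_odd.1 fun he => T.not_dvd_index (he.two_dvd.trans (index_dvd_of_le hTC))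
    exact hns (isSolvable_of_quotient C hCsol (Cfsg.Agent.S0205.result hodd))
  -- involutions invert `V`
  have hinv : ∀ t : G, orderOf t = 2 → ∀ v ∈ V, t * v * t⁻¹ = v⁻¹ := by
    intro t ht v hv
    have hv' : t * v * t⁻¹ ∈ V := ‹V.Normal›.conj_mem v hv t
    by_contra hne
    have ht2 : t * t = 1 := by rw [← pow_two, ← ht, pow_orderOf_eq_one]
    have hfix : t * (v * (t * v * t⁻¹)) = v * (t * v * t⁻¹) * t := by
      calc t * (v * (t * v * t⁻¹)) = (t * v * t⁻¹) * ((t * t) * v * (t * t)⁻¹) * t := by group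
        _ = (t * v * t⁻¹) * v * t := by rw [ht2]; group
        _ = _ := by rw [hab _ hv' _ hv]
    refine hCodd t (key t _ 1 (by rw [ht, pow_one]) (fun e => hne ?_) hfix
      fun y hy => hab y hy _ (mul_mem hv hv')) ht
    exact eq_inv_of_mul_eq_one_right e
  obtain ⟨t, ht⟩ := CITReduce.exists_involution_of_not_isSolvable hns
  set f : G →* G ⧸ C := QuotientGroup.mk' C
  have hft : f t ≠ 1 := fun e => hCodd t ((QuotientGroup.eq_one_iff t).1 e) ht
  have hcen : ∀ q, q * f t = f t * q := by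
    intro q
    obtain ⟨g, rfl⟩ := QuotientGroup.mk'_surjective C q
    rw [← map_mul, ← map_mul]
    refine (QuotientGroup.eq).2 (mem_centralizer_iff.2 fun v hv => ?_)
    have hs : orderOf (g * t * g⁻¹) = 2 := (orderOf_conj_eq g t).trans ht
    have ht2 : t⁻¹ = t := inv_eq_of_mul_eq_one_left (by rw [← pow_two, ← ht, pow_orderOf_eq_one])
    have h4 := hinv _ ht _ ((‹V.Normal›).conj_mem v hv g)
    have h5 := hinv t ht v hv
    have h6 : (g * t)⁻¹ * (t * g) * v * ((g * t)⁻¹ * (t * g))⁻¹ = v := by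
      calc _ = t⁻¹ * (g⁻¹ * (t * (g * v * g⁻¹) * t⁻¹) * g) * t⁻¹⁻¹ := by group
        _ = t⁻¹ * v⁻¹ * t⁻¹⁻¹ := by rw [h4]; group
        _ = v := by
          rw [ht2, show t * v⁻¹ * t⁻¹ = (t * v * t⁻¹)⁻¹ by group, h5, inv_inv]
    exact (mul_inv_eq_iff_eq_mul.1 h6).symm
  have hnil := CNGroup.Quotient.isCNGroup_quotient hCN C hCsol (f t) hft
  rw [show centralizer ({f t} : Set (G ⧸ C)) = ⊤ from
    (eq_top_iff' _).2 fun q => mem_centralizer_singleton_iff.2 (hcen q)] at hnil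
  haveI := hnil
  haveI : Group.IsNilpotent (G ⧸ C) := Group.nilpotent_of_mulEquiv Subgroup.topEquiv
  exact hns (isSolvable_of_quotient C hCsol inferInstance)

/-- A nonsolvable CN-group with trivial `O₂` has no solvable normal subgroup. -/
theorem eq_bot_of_solvable_normal (hCN : Cfsg.IsCNGroup G) (hns : ¬ Group.IsSolvable G)
    (h2 : Cfsg.pCore 2 G = ⊥) (N : Subgroup G) [N.Normal] (hN : Group.IsSolvable N) : N = ⊥ := by
  by_contra hN1
  obtain ⟨V, hVn, hVN, hV1, hmin⟩ := Cores.MinNormal.exists_minimal_le hN1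
  haveI := hVn
  haveI : Group.IsSolvable V := haveI := hN; Group.isSolvable_of_isSolvable_injective
    (f := Subgroup.inclusion hVN) (Subgroup.inclusion_injective _)
  haveI := Cores.MinNormal.isMulCommutative_of_solvable hV1 hmin
  obtain ⟨p, hp, hexp⟩ := Cores.MinNormal.exists_prime_pow_eq_one hV1 hmin
  haveI := Fact.mk hp
  have hVp := Cores.MinNormal.isPGroup_of_pow_eq_one hexp
  rcases eq_or_ne p 2 with rfl | hp2
  · have hle := Cores.le_pCore hVp
    rw [h2] at hle; exact hV1 (le_bot_iff.1 hle)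
  · exact hV1 (eq_bot_of_abelian hCN hns V hp hp2 hVp
      fun a ha b hb => congrArg Subtype.val (mul_comm' (⟨a, ha⟩ : V) ⟨b, hb⟩))

/-- A nonsolvable CN-group is a CIT-group. -/
theorem isCIT (hCN : Cfsg.IsCNGroup G) (hns : ¬ Group.IsSolvable G) : CIT.IsCIT G := by
  intro t ht
  by_contra hno
  haveI : Fact (Nat.Prime 2) := ⟨Nat.prime_two⟩
  have ht1 : t ≠ 1 := invol_ne_one ht
  obtain ⟨H, hH, hle⟩ := exists_maxNilpotent_ge (hCN t ht1)
  have htH : t ∈ H := hle (mem_centralizer_singleton_iff.mpr rfl)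
  have h2 : 2 ∣ Nat.card H := ht ▸ orderOf_dvd_natCard H htH
  have hpp : ¬ IsPrimePow (Nat.card H) := fun hpp => by
    obtain ⟨p, k, hp, hk, hpk⟩ := (isPrimePow_nat_iff _).mp hpp
    obtain rfl : p = 2 := ((Nat.prime_dvd_prime_iff_eq Nat.prime_two hp).mp
      (Nat.prime_two.dvd_of_dvd_pow (hpk ▸ h2))).symm
    exact hno ((IsPGroup.of_card (p := 2) (n := k) hpk.symm).to_le hle)
  have hti : ∀ g : G, H.map (MulAut.conj g).toMonoidHom ≠ H →
      H ⊓ H.map (MulAut.conj g).toMonoidHom = ⊥ := fun g hg => ti_of_not_isPrimePow hCN hH hpp hg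
  have hE : EvenTI H := by
    refine ⟨hH.1, even_iff_two_dvd.mpr h2, ?_, fun x hx hx1 => centralizer_le_of_ti hCN hH hti hx hx1,
      fun p hp hd => haveI := Fact.mk hp; exists_sylow_le hCN hH hd⟩
    intro x hx hx1 g hg
    have heq : H.map (MulAut.conj g).toMonoidHom = H := by
      by_contra hne
      have hmem : g * x * g⁻¹ ∈ H ⊓ H.map (MulAut.conj g).toMonoidHom :=
        ⟨hg, mem_conj_map.mpr (by simpa [mul_assoc] using hx)⟩
      rw [hti g hne, mem_bot] at hmem
      exact hx1 (conj_eq_one_iff.mp hmem)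
    refine mem_normalizer_iff.mpr fun y => ⟨fun hy => heq ▸ ⟨y, hy, rfl⟩, fun hy => ?_⟩
    rw [← heq] at hy
    simpa [mul_assoc] using mem_conj_map.mp hy
  obtain ⟨T, hT⟩ := hE.syl 2 Nat.prime_two h2
  have hHsol : Group.IsSolvable H := haveI := hH.1; inferInstance
  have hNtop : ¬ ∀ g : G, g ∈ normalizer (H : Set G) := fun hall => by
    haveI : H.Normal := normalizer_eq_top_iff.mp ((eq_top_iff' _).2 hall)
    have hodd : Odd (Nat.card (G ⧸ H)) := by
      rw [← Subgroup.index_eq_card]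
      exact Nat.not_even_iff_odd.1 fun he => T.not_dvd_index (he.two_dvd.trans (index_dvd_of_le hT))
    exact hns (isSolvable_of_quotient H hHsol (Cfsg.Agent.S0205.result hodd))
  have hQ : Cfsg.pCore 2 G = ⊥ := by
    by_contra hQ1
    obtain ⟨q, hq, hq1⟩ := (Cfsg.pCore 2 G).bot_or_exists_ne_one.resolve_left hQ1
    haveI : (Cfsg.pCore 2 G).Normal := by infer_instance
    exact hNtop fun g => hE.ti q (hT (Cores.pCore_le_sylow T hq)) hq1 g
      (hT (Cores.pCore_le_sylow T (‹(Cfsg.pCore 2 G).Normal›.conj_mem q hq g)))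
  obtain ⟨S, hSn, hsim, hna, -⟩ := CITReduce.exists_socle_of hns
    (fun N _ hN => eq_bot_of_solvable_normal hCN hns hQ N hN) (isSolvable_of_commute hCN)
  haveI := hSn
  haveI := hsim
  have hne : ∃ a b : S, a * b ≠ b * a := by
    by_contra hc
    push Not at hc
    exact hna ⟨⟨hc⟩⟩
  have hScit : CIT.IsCIT S := fun s hs =>
    isPGroup_centralizer_of_isCNGroup hne (isCNGroup_subgroup hCN S) hs
  -- an involution of `S` in `H`
  obtain ⟨s0, hs0⟩ := CITReduce.exists_involution_of_not_isSolvable (G := S) fun hs =>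
    hna ⟨⟨IsSimpleGroup.comm_iff_isSolvable.2 hs⟩⟩
  have hs0G : orderOf (s0 : G) = 2 := by rw [Subgroup.orderOf_coe, hs0]
  obtain ⟨R, hR⟩ := (IsPGroup.of_card (p := 2) (n := 1) (G := ↥(zpowers (s0 : G)))
    (by rw [Nat.card_zpowers, hs0G, pow_one])).exists_le_sylow
  obtain ⟨c, rfl⟩ := MulAction.exists_smul_eq G T R
  obtain ⟨s, hsS, hsH, hso⟩ : ∃ s : G, s ∈ S ∧ s ∈ H ∧ orderOf s = 2 := by
    obtain ⟨y, hy, hys⟩ := (hR (mem_zpowers (s0 : G)) :
      (s0 : G) ∈ ((T : Subgroup G).map (MulAut.conj c).toMonoidHom))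
    have hys' : c * y * c⁻¹ = (s0 : G) := hys
    refine ⟨y, ?_, hT hy, ?_⟩
    · have : y = c⁻¹ * (s0 : G) * c⁻¹⁻¹ := by rw [← hys']; group
      rw [this]; exact hSn.conj_mem _ s0.2 _
    · rw [← orderOf_conj_eq c y, hys', hs0G]
  -- `H ⊓ S` is a `2`-group
  have hU : ∀ x ∈ H, x ∈ S → ∀ p : ℕ, p.Prime → p ≠ 2 → orderOf x ≠ p := by
    intro x hx hxS p hp hp2 ho
    have hc := commute_of_mem_nilpotent hE.nilp hx hsH
      (by rw [ho, hso]; exact (Nat.coprime_primes hp Nat.prime_two).2 hp2)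
    obtain ⟨k, hk⟩ := IsPGroup.iff_orderOf.1 (hScit ⟨s, hsS⟩ (by rw [Subgroup.orderOf_mk, hso]))
      ⟨⟨x, hxS⟩, mem_centralizer_singleton_iff.2 (Subtype.ext hc)⟩
    rw [Subgroup.orderOf_mk, Subgroup.orderOf_mk, ho] at hk
    exact hp2 ((Nat.prime_dvd_prime_iff_eq hp Nat.prime_two).1
      (hp.dvd_of_dvd_pow (n := k) (by rw [← hk])))
  obtain ⟨p, hp, hpd, hp2⟩ : ∃ p : ℕ, p.Prime ∧ p ∣ Nat.card H ∧ p ≠ 2 := by
    by_contra hc
    push Not at hc
    exact hpp ((isPrimePow_nat_iff _).2 ⟨2, _, Nat.prime_two, Nat.pos_of_ne_zero fun e => by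
      have := Nat.eq_prime_pow_of_unique_prime_dvd (Nat.card_pos (α := H)).ne' fun {q} hq hd => hc q hq hd
      rw [e, pow_zero] at this
      omega, (Nat.eq_prime_pow_of_unique_prime_dvd (Nat.card_pos (α := H)).ne'
        fun {q} hq hd => hc q hq hd).symm⟩)
  haveI := Fact.mk hp
  obtain ⟨d', hd'⟩ := exists_prime_orderOf_dvd_card' (G := H) p hpd
  have hdo : orderOf (d' : G) = p := by rw [Subgroup.orderOf_coe, hd']
  have hd1 : (d' : G) ≠ 1 := fun e => hp.ne_one (by rw [← hdo, e, orderOf_one])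
  -- `H ⊓ S` is self-normalising
  have hself : ∀ a ∈ S, a ∈ normalizer (H : Set G) → a ∈ H := by
    intro a haS haN
    set d := (d' : G)
    set u := a * d * a⁻¹ * d⁻¹ with hu
    have huS : u ∈ S := by
      have : u = a * (d * a⁻¹ * d⁻¹) := by rw [hu]; group
      rw [this]; exact mul_mem haS (hSn.conj_mem _ (inv_mem haS) d)
    have had : a * d * a⁻¹ ∈ H := CNGroup.EvenTI.conj_mem haN d'.2
    have huH : u ∈ H := mul_mem had (inv_mem d'.2)
    have hu2 : ∃ k, orderOf u = 2 ^ k := ⟨_, Nat.eq_prime_pow_of_unique_prime_dvd (orderOf_pos u).ne'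
      fun {q} hq hqd => by_contra fun hq2 => hU _ (pow_mem huH _) (pow_mem huS _) q hq hq2
        (orderOf_pow_orderOf_div (orderOf_pos u).ne' hqd)⟩
    obtain ⟨k, hk⟩ := hu2
    have hcop : (orderOf u).Coprime (orderOf d) := by
      rw [hk, hdo]; exact Nat.Coprime.pow_left k ((Nat.coprime_primes Nat.prime_two hp).2 hp2.symm)
    have hcomm : Commute u d := commute_of_mem_nilpotent hE.nilp huH d'.2 hcop
    have ho := hcomm.orderOf_mul_eq_mul_orderOf_of_coprime hcop
    rw [show u * d = a * d * a⁻¹ by rw [hu]; group, orderOf_conj_eq] at ho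
    have hu1 : orderOf u = 1 :=
      Nat.eq_of_mul_eq_mul_right (orderOf_pos d) (by rw [one_mul]; exact ho.symm)
    refine hE.cent d d'.2 hd1 (mem_centralizer_singleton_iff.2 ?_)
    rw [orderOf_eq_one_iff, hu, mul_inv_eq_one] at hu1
    exact mul_inv_eq_iff_eq_mul.1 hu1
  set U : Subgroup S := H.subgroupOf S with hUdef
  have hU1 : U ≠ ⊥ := fun e => by
    have h' : (⟨s, hsS⟩ : S) ∈ U := mem_subgroupOf.2 hsH
    rw [e, mem_bot] at h'
    rw [show s = 1 from congrArg Subtype.val h', orderOf_one] at hso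
    omega
  have hUtop : U ≠ ⊤ := fun e => hna ⟨⟨by
    haveI := hH.1
    haveI : Group.IsNilpotent S := Group.nilpotent_of_mulEquiv
      (Subgroup.subgroupOfEquivOfLe (subgroupOf_eq_top.1 e) : S.subgroupOf H ≃* S)
    exact IsSimpleGroup.comm_iff_isSolvable.2 inferInstance⟩⟩
  have hfrob : Cfsg.IsFrobeniusComplement U := by
    refine Frobenius.isFrobeniusComplement_iff.2 ⟨hU1, hUtop, fun g hg x hx hx' => ?_⟩
    by_contra hx1
    rw [hUdef, mem_subgroupOf] at hg hx hx'
    have hN := hE.ti (x : G) hx (fun e => hx1 (Subtype.ext e)) (g : G)⁻¹ (by simpa using hx')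
    exact hg (hself _ g.2 (inv_mem_iff.1 hN))
  obtain ⟨K, hKn, -, hKc⟩ := Induced.FrobeniusKernel.exists_frobeniusKernel_subgroup hfrob
  rcases hKn.eq_bot_or_eq_top with rfl | rfl
  · exact hUtop (isComplement'_bot_left.1 hKc)
  · exact hU1 (isComplement'_top_left.1 hKc)

/-- The quotient by `O₂` of a nonsolvable CN-group has a simple socle. -/
theorem exists_socle_quotient (hCN : Cfsg.IsCNGroup G) (hns : ¬ Group.IsSolvable G) :
    ∃ S : Subgroup (G ⧸ Cfsg.pCore 2 G), S.Normal ∧ IsSimpleGroup S ∧ ¬ IsMulCommutative S ∧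
      Subgroup.centralizer (S : Set (G ⧸ Cfsg.pCore 2 G)) = ⊥ :=
  CITReduce.exists_socle (CITReduce.isCIT_quotient (isCIT hCN hns) _)
    (CITReduce.not_isSolvable_quotient_pCore hns) (Cores.pCore_quotient_pCore 2)

end Cfsg.Agent.Lib.CNReduce32
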