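import Cfsg.Agent.Lib.CNReduce32.Models
import Cfsg.Agent.S2602

/-!
# Almost simple CN-groups with socle `PSL₂` or `PSL₃(4)`

An automorphism induced by a non-trivial element of a CN-group cannot fix an involution and an
element of order three which do not commute.

Owner: helper32.
-/

set_option autoImplicit false
set_option linter.unusedSectionVars false
set_option linter.style.haveILetI false

namespace Cfsg.Agent.Lib.CNReduce32

open Matrix Subgroup
open Cfsg.Agent.Lib
open Cfsg.Agent.Lib.AutPSL (mk_eq_mk_iff conjAut fieldAut invT)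
open Cfsg.Agent.Lib.PSLTwo.Sylow (mk2)

section Induced

variable {G : Type*} [Group G] {S : Subgroup G} [S.Normal] {P : Type*} [Group P] (e : S ≃* P)

/-- The automorphism of a copy of a normal subgroup induced by conjugation. -/
def induced : G →* MulAut P := (MulAut.congr e).toMonoidHom.comp MulAut.conjNormal

theorem induced_apply (x : G) (u : P) : induced e x u = e (MulAut.conjNormal x (e.symm u)) := rfl

theorem induced_coe (s : S) : induced e (s : G) = MulAut.conj (e s) := by
  refine MulEquiv.ext fun u => ?_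
  rw [induced_apply, MulAut.conj_apply, show MulAut.conjNormal (s : G) (e.symm u) = s * e.symm u * s⁻¹ from
    Subtype.ext (by simp), map_mul, map_mul, map_inv, e.apply_symm_apply]

theorem induced_injective (hC : centralizer (S : Set G) = ⊥) : Function.Injective (induced e) := by
  rw [injective_iff_map_eq_one]
  intro g hg
  refine mem_bot.1 (hC ▸ mem_centralizer_iff.2 fun s hs => ?_)
  have := congrArg (fun a : MulAut P => ((e.symm (a (e ⟨s, hs⟩)) : S) : G)) hg
  simp only [induced_apply, MulEquiv.symm_apply_apply, MulAut.one_apply, MulAut.conjNormal_apply] at this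
  exact (mul_inv_eq_iff_eq_mul.1 this).symm

/-- An element inducing an automorphism which fixes an involution and an element of order three
not commuting with it is trivial. -/
theorem eq_one_of_fixes [Finite G] (hCN : Cfsg.IsCNGroup G) {x : G} {u v : P} (hu : orderOf u = 2)
    (hv : orderOf v = 3) (huv : u * v ≠ v * u) (hxu : induced e x u = u) (hxv : induced e x v = v) :
    x = 1 := by
  by_contra hx
  have key : ∀ w : P, induced e x w = w → ((e.symm w : S) : G) * x = x * ((e.symm w : S) : G) := by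
    intro w hw
    have := congrArg (fun z => ((e.symm z : S) : G)) hw
    simp only [induced_apply, MulEquiv.symm_apply_apply, MulAut.conjNormal_apply] at this
    exact (mul_inv_eq_iff_eq_mul.1 this).symm
  have hc := CNGroup.Basic.commute_of_common hCN hx (key u hxu) (key v hxv)
    (by rw [Subgroup.orderOf_coe, Subgroup.orderOf_coe, MulEquiv.orderOf_eq, MulEquiv.orderOf_eq, hu, hv]
        decide)
  refine huv (e.symm.injective ?_)
  rw [map_mul, map_mul]
  exact Subtype.ext hc

/-- The element lies in `S` if the automorphism is inner times one which fixes such a pair. -/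
theorem mem_of_inner_mul [Finite G] (hCN : Cfsg.IsCNGroup G) {x : G} {p : P} {β : MulAut P}
    (hx : induced e x = MulAut.conj p * β) {u v : P} (hu : orderOf u = 2) (hv : orderOf v = 3)
    (huv : u * v ≠ v * u) (hbu : β u = u) (hbv : β v = v) : x ∈ S := by
  have hβ : induced e (((e.symm p : S) : G)⁻¹ * x) = β := by
    rw [map_mul, map_inv, induced_coe, e.apply_symm_apply, hx, inv_mul_cancel_left]
  have h1 := eq_one_of_fixes e hCN hu hv huv (x := ((e.symm p : S) : G)⁻¹ * x)
    (by rw [hβ, hbu]) (by rw [hβ, hbv])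
  rw [inv_mul_eq_one] at h1
  exact h1 ▸ (e.symm p).2

end Induced

section Scalar

variable {n : ℕ} {F : Type} [Field F]

/-- Matrices whose determinants differ by an `n`-th power induce the same outer automorphism. -/
theorem exists_conj_mul (g h : GL (Fin n) F) {c : F} (hc : c ≠ 0)
    (hdet : (g : Matrix (Fin n) (Fin n) F).det = c ^ n * (h : Matrix (Fin n) (Fin n) F).det) :
    ∃ p : Matrix.ProjectiveSpecialLinearGroup (Fin n) F, conjAut g = MulAut.conj p * conjAut h := by
  have hh : (h : Matrix (Fin n) (Fin n) F).det ≠ 0 := fun he => by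
    have := congrArg Matrix.det h.mul_inv
    rw [Matrix.det_mul, he, zero_mul, Matrix.det_one] at this
    exact zero_ne_one this
  let z : GL (Fin n) F := ⟨Matrix.scalar (Fin n) c, Matrix.scalar (Fin n) c⁻¹,
    by rw [← map_mul, mul_inv_cancel₀ hc, map_one], by rw [← map_mul, inv_mul_cancel₀ hc, map_one]⟩
  let w : GL (Fin n) F := z⁻¹ * g * h⁻¹
  have hz : conjAut z = (1 : MulAut (Matrix.ProjectiveSpecialLinearGroup (Fin n) F)) := by
    refine MulEquiv.ext fun x => ?_
    obtain ⟨t, rfl⟩ := QuotientGroup.mk_surjective x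
    rw [AutPSL.conjAut_mk, MulAut.one_apply]
    congr 1
    apply Subtype.ext
    rw [AutPSL.coe_conjSL]
    show Matrix.scalar (Fin n) c * (t : Matrix (Fin n) (Fin n) F) * Matrix.scalar (Fin n) c⁻¹ = _
    rw [(Matrix.scalar_commute c (fun r => mul_comm c r) _).eq, mul_assoc, ← map_mul,
      mul_inv_cancel₀ hc, map_one, mul_one]
  have hw : (w : Matrix (Fin n) (Fin n) F).det = 1 := by
    show (Matrix.scalar (Fin n) c⁻¹ * (g : Matrix (Fin n) (Fin n) F) *
      ((h⁻¹ : GL (Fin n) F) : Matrix (Fin n) (Fin n) F)).det = 1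
    have hi := congrArg Matrix.det h.inv_mul
    rw [Matrix.det_mul, Matrix.det_one] at hi
    rw [Matrix.det_mul, Matrix.det_mul, hdet]
    simp only [Matrix.scalar_apply, Matrix.det_diagonal, Finset.prod_const, Finset.card_univ,
      Fintype.card_fin, inv_pow]
    rw [← mul_assoc, inv_mul_cancel₀ (pow_ne_zero _ hc), one_mul, mul_comm]
    exact hi
  let s : Matrix.SpecialLinearGroup (Fin n) F := ⟨_, hw⟩
  refine ⟨QuotientGroup.mk s, ?_⟩
  have hsw : Matrix.SpecialLinearGroup.toGL s = w := Units.ext rfl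
  rw [← AutPSL.conjAut_toGL, hsw, show g = z * (w * h) by simp [w, mul_assoc], map_mul, hz, one_mul, map_mul]

end Scalar

section Two

variable {F : Type} [Field F]

local notation "SL2" => Matrix.SpecialLinearGroup (Fin 2) F
local notation "PSL2" => Matrix.ProjectiveSpecialLinearGroup (Fin 2) F

/-- An involution of `PSL₂` over the prime field. -/
def w2 : SL2 := mk2 0 1 (-1) 0 (by ring)

theorem orderOf_w2 : orderOf (QuotientGroup.mk w2 : PSL2) = 2 := by
  haveI : Fact (Nat.Prime 2) := ⟨Nat.prime_two⟩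
  refine orderOf_eq_prime ?_ (mk_ne_one (by simp [w2]))
  rw [← QuotientGroup.mk_pow, ← QuotientGroup.mk_one]
  refine mk_eq_of_neg ?_
  rw [pow_two]
  ext i j
  fin_cases i <;> fin_cases j <;> simp [w2, Matrix.mul_apply, Fin.sum_univ_two]

theorem w2_a3 : (QuotientGroup.mk w2 : PSL2) * QuotientGroup.mk a3 ≠ QuotientGroup.mk a3 * QuotientGroup.mk w2 := by
  rw [← QuotientGroup.mk_mul, ← QuotientGroup.mk_mul, ne_eq, mk_eq_mk_iff]
  rintro ⟨c, hc⟩
  have h1 := congrFun (congrFun hc 0) 0
  have h2 := congrFun (congrFun hc 1) 0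
  simp [w2, a3, Matrix.mul_apply, Fin.sum_univ_two] at h1 h2

theorem fieldAut_w2 (σ : F ≃+* F) : fieldAut σ (QuotientGroup.mk w2 : PSL2) = QuotientGroup.mk w2 := by
  rw [AutPSL.fieldAut_mk]
  congr 1
  apply Subtype.ext
  rw [AutPSL.coe_fieldSL]
  ext i j
  fin_cases i <;> fin_cases j <;> simp [w2]

theorem fieldAut_a3 (σ : F ≃+* F) : fieldAut σ (QuotientGroup.mk a3 : PSL2) = QuotientGroup.mk a3 := by
  rw [AutPSL.fieldAut_mk]
  congr 1
  apply Subtype.ext
  rw [AutPSL.coe_fieldSL]
  ext i j
  fin_cases i <;> fin_cases j <;> simp [a3]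

variable {G : Type*} [Group G] [Finite G] {S : Subgroup G} [S.Normal] (e : ↥S ≃* Matrix.ProjectiveSpecialLinearGroup (Fin 2) F)
include e

/-- No proper extension of `PSL₂(2ⁿ)`. -/
theorem eq_top_of_char_two [Fintype F] [CharP F 2] (hCN : Cfsg.IsCNGroup G) : S = ⊤ := by
  rw [eq_top_iff']
  intro x
  obtain ⟨g, σ, γ, hγ, hd⟩ := AutPSL.exists_decomp (n := 2) le_rfl (induced e x)
  obtain rfl : γ = 1 := hγ.resolve_right fun h => absurd h.1 (by norm_num)
  have hdet : (g : Matrix (Fin 2) (Fin 2) F).det ≠ 0 := fun he => by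
    have := congrArg Matrix.det g.mul_inv
    rw [Matrix.det_mul, he, zero_mul, Matrix.det_one] at this
    exact zero_ne_one this
  obtain ⟨c, hc⟩ := FiniteField.isSquare_of_char_two (ringChar.eq F 2) (g : Matrix (Fin 2) (Fin 2) F).det
  obtain ⟨p, hp⟩ := exists_conj_mul g 1 (c := c) (fun h => hdet (by rw [hc, h, mul_zero]))
    (by rw [hc, Units.val_one, Matrix.det_one, mul_one, pow_two])
  rw [hp, map_one, mul_one, mul_one] at hd
  exact mem_of_inner_mul e hCN hd orderOf_w2 orderOf_a3 w2_a3 (fieldAut_w2 σ) (fieldAut_a3 σ)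

omit e in
/-- Three is not a square for Fermat and Mersenne primes. -/
theorem not_isSquare_three [Fintype F] (h7 : 7 ≤ Fintype.card F) (hp : (Fintype.card F).Prime) {k : ℕ}
    (hk : Fintype.card F = 2 ^ k + 1 ∨ Fintype.card F + 1 = 2 ^ k) : ¬ IsSquare (3 : F) := by
  haveI : Fact (Nat.Prime 3) := ⟨Nat.prime_three⟩
  set p := Fintype.card F with hpdef
  haveI : CharP F p := by
    obtain ⟨q, hq⟩ := CharP.exists F
    obtain ⟨n, hqp, hn⟩ := FiniteField.card F q
    rw [← hpdef] at hn
    have h1 : (n : ℕ) = 1 := (Nat.Prime.pow_eq_iff (a := q) hp).1 hn.symm |>.2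
    rw [h1, pow_one] at hn
    exact hn ▸ hq
  have hcast : ∀ a : ℕ, 0 < a → a < p → (a : F) ≠ 0 := fun a ha hlt h0 => by
    have := Nat.le_of_dvd ha ((CharP.cast_eq_zero_iff F p a).1 h0)
    omega
  have h2 : (2 : F) ≠ 0 := by exact_mod_cast hcast 2 (by norm_num) (by omega)
  have h3 : (3 : F) ≠ 0 := by exact_mod_cast hcast 3 (by norm_num) (by omega)
  -- `-3` is a square exactly when `3 ∣ p - 1`
  have key : IsSquare (-3 : F) ↔ 3 ∣ p - 1 := by
    constructor
    · rintro ⟨s, hs⟩
      have hw : ((-1 + s) / 2) ^ 3 = 1 := by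
        field_simp
        linear_combination (-s + 3) * hs
      have hw1 : (-1 + s) / 2 ≠ 1 := fun h => by
        field_simp at h
        have h12 : (12 : F) = 0 := by linear_combination -hs - (s + 3) * h
        have : (3 : F) * (2 * 2) = 0 := by linear_combination h12
        exact (mul_ne_zero h3 (mul_ne_zero h2 h2)) this
      have hu : (-1 + s) / 2 ≠ 0 := fun h => by rw [h] at hw; norm_num at hw
      have ho : orderOf (Units.mk0 _ hu) = 3 :=
        orderOf_eq_prime (Units.ext (by simpa using hw)) fun h => hw1 (congrArg Units.val h)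
      have := orderOf_dvd_natCard (Units.mk0 _ hu)
      rwa [ho, Nat.card_units, Nat.card_eq_fintype_card] at this
    · intro hd
      obtain ⟨w, hw⟩ := exists_prime_orderOf_dvd_card' (G := Fˣ) 3
        (by rwa [Nat.card_units, Nat.card_eq_fintype_card])
      have hw3 : (w : F) ^ 3 = 1 := by rw [← Units.val_pow_eq_pow_val, ← hw, pow_orderOf_eq_one]; rfl
      have hw1 : (w : F) - 1 ≠ 0 := sub_ne_zero.2 fun h => by
        rw [Units.val_eq_one.1 h, orderOf_one] at hw; omega
      have h : (w : F) ^ 2 + w + 1 = 0 :=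
        (mul_eq_zero.1 (show ((w : F) - 1) * ((w : F) ^ 2 + w + 1) = 0 by linear_combination hw3)).resolve_left hw1
      exact ⟨2 * (w : F) + 1, by linear_combination (-4 : F) * h⟩
  intro h
  obtain ⟨r, hr⟩ := h
  have hr0 : r ≠ 0 := fun h0 => h3 (by rw [hr, h0, mul_zero])
  have hiff : IsSquare (-1 : F) ↔ IsSquare (-3 : F) := by
    constructor
    · rintro ⟨i, hi⟩; exact ⟨i * r, by linear_combination 3 * hi + (i * i) * hr⟩
    · rintro ⟨i, hi⟩; exact ⟨i / r, by field_simp; linear_combination hi + hr⟩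
  rw [FiniteField.isSquare_neg_one_iff, key] at hiff
  have hk3 : 3 ≤ k := by
    by_contra hlt
    interval_cases k <;> norm_num at hk <;> omega
  obtain ⟨j, rfl⟩ := Nat.exists_eq_add_of_le hk3
  have h8 : 2 ^ (3 + j) = 8 * 2 ^ j := by rw [pow_add]; norm_num
  have hp3 : p % 3 ≠ 0 := fun h0 => by
    rcases hp.eq_one_or_self_of_dvd 3 (Nat.dvd_of_mod_eq_zero h0) with e1 | e1 <;> omega
  have h23 : 2 ^ j % 3 ≠ 0 := fun h0 => by
    have := Nat.prime_three.dvd_of_dvd_pow (Nat.dvd_of_mod_eq_zero h0)
    norm_num at this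
  obtain ⟨q, hq | hq⟩ : ∃ q, 2 ^ j = 3 * q + 1 ∨ 2 ^ j = 3 * q + 2 := ⟨2 ^ j / 3, by omega⟩
  all_goals
    rcases hk with hk | hk
    · have := hiff.1 (by omega)
      omega
    · have := hiff.2 (by omega)
      omega

/-- No proper extension of `PSL₂(p)`, `p` a Fermat or Mersenne prime. -/
theorem eq_top_of_prime [Fintype F] (hCN : Cfsg.IsCNGroup G) (h7 : 7 ≤ Fintype.card F)
    (hp : (Fintype.card F).Prime) {k : ℕ}
    (hk : Fintype.card F = 2 ^ k + 1 ∨ Fintype.card F + 1 = 2 ^ k) : S = ⊤ := by
  haveI : Fact (Nat.card F).Prime := ⟨by rwa [Nat.card_eq_fintype_card]⟩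
  have hσ : ∀ σ : F ≃+* F, σ = 1 := fun σ => by
    let L : AddSubgroup F :=
      { carrier := {t | σ t = t}
        zero_mem' := map_zero σ
        add_mem' := fun {a b} ha hb => by
          show σ (a + b) = a + b
          rw [map_add, show σ a = a from ha, show σ b = b from hb]
        neg_mem' := fun {a} ha => by show σ (-a) = -a; rw [map_neg, show σ a = a from ha] }
    rcases L.eq_bot_or_eq_top_of_prime_card with hb | ht
    · exact absurd (show (1 : F) ∈ L from map_one σ) (by rw [hb, AddSubgroup.mem_bot]; exact one_ne_zero)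
    · exact RingEquiv.ext fun t => (ht ▸ AddSubgroup.mem_top t : t ∈ L)
  classical
  have h3 := not_isSquare_three h7 hp hk
  have h30 : (3 : F) ≠ 0 := fun h => h3 (h ▸ IsSquare.zero)
  have h20 : ringChar F ≠ 2 := fun h => by
    haveI : CharP F 2 := ringChar.of_eq h
    exact h3 (FiniteField.isSquare_of_char_two h _)
  rw [eq_top_iff']
  intro x
  obtain ⟨g, σ, γ, hγ, hd⟩ := AutPSL.exists_decomp (n := 2) le_rfl (induced e x)
  obtain rfl : γ = 1 := hγ.resolve_right fun h => absurd h.1 (by norm_num)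
  rw [hσ σ, map_one, mul_one, mul_one] at hd
  have hdet : (g : Matrix (Fin 2) (Fin 2) F).det ≠ 0 := fun he => by
    have := congrArg Matrix.det g.mul_inv
    rw [Matrix.det_mul, he, zero_mul, Matrix.det_one] at this
    exact zero_ne_one this
  by_cases hsq : IsSquare (g : Matrix (Fin 2) (Fin 2) F).det
  · obtain ⟨c, hc⟩ := hsq
    obtain ⟨p, hp'⟩ := exists_conj_mul g 1 (c := c) (fun h => hdet (by rw [hc, h, mul_zero]))
      (by rw [hc, Units.val_one, Matrix.det_one, mul_one, pow_two])
    rw [hp', map_one, mul_one] at hd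
    exact mem_of_inner_mul e hCN (β := 1) (by rw [mul_one]; exact hd) orderOf_w2 orderOf_a3 w2_a3 rfl rfl
  · let h : GL (Fin 2) F := ⟨!![1, 2; -2, -1], (3 : F)⁻¹ • !![-1, -2; 2, 1],
      by ext i j; fin_cases i <;> fin_cases j <;> simp [Matrix.mul_apply, Fin.sum_univ_two] <;> field_simp <;> ring,
      by ext i j; fin_cases i <;> fin_cases j <;> simp [Matrix.mul_apply, Fin.sum_univ_two] <;> field_simp <;> ring⟩
    have hh : (h : Matrix (Fin 2) (Fin 2) F).det = 3 := by
      show Matrix.det !![(1 : F), 2; -2, -1] = 3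
      rw [Matrix.det_fin_two_of]; ring
    obtain ⟨c, hc⟩ : IsSquare ((g : Matrix (Fin 2) (Fin 2) F).det * 3⁻¹) := by
      rw [← quadraticChar_one_iff_isSquare (mul_ne_zero hdet (inv_ne_zero h30)), map_mul,
        (quadraticChar_neg_one_iff_not_isSquare).2 hsq,
        (quadraticChar_neg_one_iff_not_isSquare).2 fun h => h3 (by simpa using h.inv)]
      norm_num
    obtain ⟨p, hp'⟩ := exists_conj_mul g h (c := c)
      (fun h => mul_ne_zero hdet (inv_ne_zero h30) (by rw [hc, h, mul_zero]))
      (by rw [hh, pow_two, ← hc, inv_mul_cancel_right₀ h30])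
    rw [hp'] at hd
    -- an element inverting `a3`
    obtain ⟨r, t, hrt⟩ : ∃ r t : F, r * r + r * t + t * t + 1 = 0 := by
      obtain ⟨a, b, hab⟩ := FiniteField.exists_root_sum_quadratic (f := Polynomial.X ^ 2)
        (g := Polynomial.C (3 : F) * Polynomial.X ^ 2 + Polynomial.C 1)
        (Polynomial.degree_X_pow 2) (by
          rw [Polynomial.degree_add_eq_left_of_degree_lt] <;>
            rw [Polynomial.degree_C_mul_X_pow 2 h30]
          · rfl
          · exact lt_of_le_of_lt Polynomial.degree_C_le (by decide))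
        (FiniteField.odd_card_of_char_ne_two h20)
      simp only [Polynomial.eval_pow, Polynomial.eval_X, Polynomial.eval_add, Polynomial.eval_mul,
        Polynomial.eval_C] at hab
      exact ⟨a - b, 2 * b, by linear_combination hab⟩
    let u : SL2 := mk2 r (r + t) t (-r) (by linear_combination -hrt)
    have huo : orderOf (QuotientGroup.mk u : PSL2) = 2 := by
      haveI : Fact (Nat.Prime 2) := ⟨Nat.prime_two⟩
      refine orderOf_eq_prime ?_ ?_
      · rw [← QuotientGroup.mk_pow, ← QuotientGroup.mk_one]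
        refine mk_eq_of_neg ?_
        rw [pow_two]
        ext i j
        fin_cases i <;> fin_cases j <;> simp [u, Matrix.mul_apply, Fin.sum_univ_two] <;>
          first | linear_combination hrt | linear_combination -hrt | ring1
      · rw [← QuotientGroup.mk_one, ne_comm, ne_eq, mk_eq_mk_iff]
        rintro ⟨d, hd'⟩
        have e1 := congrFun (congrFun hd' 1) 0
        have e2 := congrFun (congrFun hd' 0) 1
        simp [u] at e1 e2
        rw [e1, add_zero] at e2
        rw [e1, e2] at hrt
        norm_num at hrt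
    have huv : (QuotientGroup.mk u : PSL2) * QuotientGroup.mk a3 ≠ QuotientGroup.mk a3 * QuotientGroup.mk u := by
      rw [← QuotientGroup.mk_mul, ← QuotientGroup.mk_mul, ne_eq, mk_eq_mk_iff]
      rintro ⟨d, hd'⟩
      have e1 := congrFun (congrFun hd' 0) 1
      have e2 := congrFun (congrFun hd' 1) 0
      have e3 := congrFun (congrFun hd' 0) 0
      simp [u, a3, Matrix.mul_apply, Fin.sum_univ_two] at e1 e2 e3
      have hr : d * d = 1 := by
        have := congrArg Matrix.det hd'
        rw [Matrix.det_smul, Matrix.SpecialLinearGroup.det_coe, Matrix.SpecialLinearGroup.det_coe, mul_one,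
          Fintype.card_fin, pow_two] at this
        exact this.symm
      rcases mul_self_eq_one_iff.1 hr with rfl | rfl
      · have hrr : r = t := by linear_combination e1
        subst hrr
        have h3r : (3 : F) * r = 0 := by linear_combination -e3
        rw [(mul_eq_zero.1 h3r).resolve_left h30] at hrt
        norm_num at hrt
      · have hr0 : r = 0 := by linear_combination e3
        subst hr0
        have ht0 : t = 0 := by linear_combination e1
        rw [ht0] at hrt
        norm_num at hrt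
    refine mem_of_inner_mul e hCN hd huo orderOf_a3 huv ?_ ?_
    · rw [AutPSL.conjAut_mk]
      refine mk_eq_of_neg ?_
      rw [AutPSL.coe_conjSL]
      ext i j
      fin_cases i <;> fin_cases j <;> simp [h, u, mk2, Matrix.vecMul, dotProduct, Matrix.mul_apply, Fin.sum_univ_two] <;> field_simp <;> ring
    · rw [AutPSL.conjAut_mk]
      congr 1
      apply Subtype.ext
      rw [AutPSL.coe_conjSL]
      ext i j
      fin_cases i <;> fin_cases j <;> simp [h, a3, mk2, Matrix.vecMul, dotProduct, Matrix.mul_apply, Fin.sum_univ_two] <;> field_simp <;> ring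

/-- The index is at most two for `PSL₂(9)`. -/
theorem index_le_two [Fintype F] (hF : Fintype.card F = 9) (hCN : Cfsg.IsCNGroup G)
    (hC : centralizer (S : Set G) = ⊥) : S.index = 1 ∨ S.index = 2 := by
  haveI : Fact (Nat.Prime 3) := ⟨Nat.prime_three⟩
  haveI : CharP F 3 := by
    obtain ⟨q, hq⟩ := CharP.exists F
    obtain ⟨n, hqp, hn⟩ := FiniteField.card F q
    have : q ∣ 9 := by rw [← hF, hn]; exact dvd_pow_self q n.ne_zero
    have h3 : q = 3 := (Nat.prime_dvd_prime_iff_eq hqp Nat.prime_three).1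
      (hqp.dvd_of_dvd_pow (show q ∣ 3 ^ 2 from this))
    exact h3 ▸ hq
  obtain ⟨φ, hφ, -, hker⟩ := Cfsg.Agent.S2602.result (F := F) (p := 3) (f := 2) (by norm_num) hF (by norm_num)
  have hout : Nat.card (Cfsg.Out PSL2) = 4 := by
    rw [Subgroup.card_eq_card_quotient_mul_card_subgroup φ.ker,
      Nat.card_congr (QuotientGroup.quotientKerEquivOfSurjective φ hφ).toEquiv, hker]
    rw [Nat.card_congr Multiplicative.toAdd, Nat.card_zmod]
    norm_num
  haveI : IsSimpleGroup PSL2 := Linear.isSimpleGroup_PSL le_rfl fun _ => by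
    rw [Nat.card_eq_fintype_card, hF]; norm_num
  have hZ : Subgroup.center PSL2 = ⊥ := by
    refine (inferInstance : (Subgroup.center PSL2).Normal).eq_bot_or_eq_top.resolve_right fun ht => ?_
    exact w2_a3 (Subgroup.mem_center_iff.1 (ht ▸ Subgroup.mem_top (QuotientGroup.mk a3 : PSL2)) _)
  have hcard := CITReduce.SuzukiGraph.card_mulAut hZ
  rw [hout, ← Nat.card_congr e.toEquiv] at hcard
  have hinj := induced_injective e hC
  have hd := Subgroup.card_dvd_of_injective _ hinj
  rw [hcard, ← Subgroup.index_mul_card S] at hd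
  have h4 : S.index ∣ 4 := Nat.dvd_of_mul_dvd_mul_right Nat.card_pos hd
  have hle := Nat.le_of_dvd (by norm_num) h4
  have hne4 : S.index ≠ 4 := by
    intro h
    have hbij : Function.Bijective (induced e) := (Nat.bijective_iff_injective_and_card _).2
      ⟨hinj, by rw [hcard, ← Subgroup.index_mul_card S, h]⟩
    let σ : F ≃+* F := frobeniusEquiv F 3
    obtain ⟨x, hx⟩ := hbij.2 (fieldAut σ)
    have hx1 := eq_one_of_fixes e hCN orderOf_w2 orderOf_a3 w2_a3 (x := x)
      (by rw [hx, fieldAut_w2]) (by rw [hx, fieldAut_a3])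
    rw [hx1, map_one] at hx
    have hfix : ∀ t : F, t ^ 3 = t := fun t => by
      have h01 : (0 : Fin 2) ≠ 1 := by decide
      have := DFunLike.congr_fun hx (AutPSL.xr (0 : Fin 2) 1 t)
      rw [MulAut.one_apply, AutPSL.fieldAut_xr σ h01] at this
      have := AutPSL.xr_injective le_rfl h01 this
      rw [frobeniusEquiv_def] at this
      exact this.symm
    classical
    have hle : (Finset.univ : Finset F) ⊆ {0, 1, -1} := fun t _ => by
      rcases mul_eq_zero.1 (show t * (t * t - 1) = 0 by linear_combination hfix t) with h | h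
      · simp [h]
      · rcases mul_self_eq_one_iff.1 (sub_eq_zero.1 h) with h | h <;> simp [h]
    have := (Finset.card_le_card hle).trans Finset.card_le_three
    rw [Finset.card_univ, hF] at this
    omega
  interval_cases hi : S.index <;> omega

end Two

section Three

variable {F : Type} [Field F] [Fintype F]

local notation "SL3" => Matrix.SpecialLinearGroup (Fin 3) F
local notation "PSL3" => Matrix.ProjectiveSpecialLinearGroup (Fin 3) F

theorem exists_cube_root (hF : Fintype.card F = 4) :
    ∃ w : F, w * w * w = 1 ∧ w ≠ 1 ∧ w * w + w + 1 = 0 ∧ (2 : F) = 0 ∧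
      ∀ t : F, t = 0 ∨ t = 1 ∨ t = w ∨ t = w * w := by
  haveI : CharP F 2 := by
    obtain ⟨q, hq⟩ := CharP.exists F
    obtain ⟨n, hqp, hn⟩ := FiniteField.card F q
    have : q ∣ 4 := by rw [← hF, hn]; exact dvd_pow_self q n.ne_zero
    have h2 : q = 2 := (Nat.prime_dvd_prime_iff_eq hqp Nat.prime_two).1
      (hqp.dvd_of_dvd_pow (show q ∣ 2 ^ 2 from this))
    exact h2 ▸ hq
  haveI : Fact (Nat.Prime 3) := ⟨Nat.prime_three⟩
  obtain ⟨u, hu⟩ := exists_prime_orderOf_dvd_card' (G := Fˣ) 3
    (by rw [Nat.card_units, Nat.card_eq_fintype_card, hF])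
  have h3 : (u : F) * u * u = 1 := by
    rw [← pow_three', ← Units.val_pow_eq_pow_val, ← hu, pow_orderOf_eq_one]; rfl
  have h1 : (u : F) ≠ 1 := fun h => by rw [Units.val_eq_one.1 h, orderOf_one] at hu; omega
  refine ⟨u, h3, h1, (mul_eq_zero.1 (show ((u : F) - 1) * ((u : F) * u + u + 1) = 0 by
    linear_combination h3)).resolve_left (sub_ne_zero.2 h1), CharTwo.two_eq_zero, fun t => ?_⟩
  rcases eq_or_ne t 0 with h | h
  · exact Or.inl h
  have ht : t ^ 3 = 1 := by
    have := FiniteField.pow_card_sub_one_eq_one t h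
    rwa [hF] at this
  rcases mul_eq_zero.1 (show (t - 1) * (t * t + t + 1) = 0 by linear_combination ht) with h' | h'
  · exact Or.inr (Or.inl (sub_eq_zero.1 h'))
  have hu' : (u : F) * u + u + 1 = 0 := (mul_eq_zero.1 (show ((u : F) - 1) * ((u : F) * u + u + 1) = 0 by
    linear_combination h3)).resolve_left (sub_ne_zero.2 h1)
  rcases mul_eq_zero.1 (show (t - u) * (t - u * u) = 0 by linear_combination h' - t * hu' + h3) with e | e
  · exact Or.inr (Or.inr (Or.inl (sub_eq_zero.1 e)))
  · exact Or.inr (Or.inr (Or.inr (sub_eq_zero.1 e)))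

theorem orderOf_mk3 {p : ℕ} (hp : p.Prime) {s : SL3} (hs : s ^ p = 1)
    (hne : s.1 0 0 ≠ s.1 1 1 ∨ s.1 0 1 ≠ 0 ∨ s.1 0 2 ≠ 0) : orderOf (QuotientGroup.mk s : PSL3) = p :=
  haveI := Fact.mk hp
  orderOf_eq_prime (by rw [← QuotientGroup.mk_pow, hs, QuotientGroup.mk_one]) (mk3_ne_one hne)

variable {G : Type*} [Group G] [Finite G] {S : Subgroup G} [S.Normal] (e : ↥S ≃* Matrix.ProjectiveSpecialLinearGroup (Fin 3) F)
include e

/-- No proper extension of `PSL₃(4)`. -/
theorem eq_top_of_three_four (hF : Fintype.card F = 4) (hCN : Cfsg.IsCNGroup G) : S = ⊤ := by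
  obtain ⟨w, hw, hw1, hq, h2, hall⟩ := exists_cube_root hF
  have hneg : (-1 : F) = 1 := by linear_combination -h2
  rw [eq_top_iff']
  intro x
  obtain ⟨g, σ, γ, hγ, hd⟩ := AutPSL.exists_decomp (n := 3) (by norm_num) (induced e x)
  have hdet : (g : Matrix (Fin 3) (Fin 3) F).det ≠ 0 := fun he => by
    have := congrArg Matrix.det g.mul_inv
    rw [Matrix.det_mul, he, zero_mul, Matrix.det_one] at this
    exact zero_ne_one this
  set c := (g : Matrix (Fin 3) (Fin 3) F).det with hc
  let d : GL (Fin 3) F := ⟨!![c, 0, 0; 0, 1, 0; 0, 0, 1], !![c⁻¹, 0, 0; 0, 1, 0; 0, 0, 1],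
    by ext i j; fin_cases i <;> fin_cases j <;> simp [Matrix.mul_apply, Fin.sum_univ_three, hdet],
    by ext i j; fin_cases i <;> fin_cases j <;> simp [Matrix.mul_apply, Fin.sum_univ_three, hdet]⟩
  obtain ⟨p, hp⟩ := exists_conj_mul g d (c := 1) one_ne_zero (by
    rw [one_pow, one_mul, ← hc]
    show c = Matrix.det !![c, 0, 0; 0, 1, 0; 0, 0, 1]
    rw [Matrix.det_fin_three]; simp)
  rw [hp, mul_assoc (MulAut.conj p), mul_assoc] at hd
  have hc3 : c * c * c = 1 := by
    rcases hall c with h | h | h | h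
    · exact absurd h hdet
    all_goals rw [h]
    · ring
    · exact hw
    · linear_combination (w * w * w + 1) * hw
  have hcinv : c⁻¹ = c * c := inv_eq_of_mul_eq_one_right (by rw [← mul_assoc, hc3])
  obtain ⟨U, hU⟩ : ∃ U : SL3, U.1 = !![1, 0, 0; 0, 0, 1; 0, 1, 0] := ⟨⟨_, by
    rw [Matrix.det_fin_three]; simp; exact hneg⟩, rfl⟩
  have hUo : orderOf (QuotientGroup.mk U : PSL3) = 2 := by
    refine orderOf_mk3 Nat.prime_two ?_ (Or.inl (by simp [hU]))
    rw [pow_two]; ext i j
    fin_cases i <;> fin_cases j <;> simp [hU, Matrix.mul_apply, Fin.sum_univ_three]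
  have htU : AutPSL.transInv U = U := by
    have hi : U⁻¹ = U := inv_eq_of_mul_eq_one_right (by
      ext i j
      fin_cases i <;> fin_cases j <;> simp [hU, Matrix.mul_apply, Fin.sum_univ_three])
    apply Subtype.ext
    rw [AutPSL.coe_transInv, hi]
    ext i j
    fin_cases i <;> fin_cases j <;> simp [hU]
  have hfU : AutPSL.fieldSL σ U = U := by
    apply Subtype.ext; rw [AutPSL.coe_fieldSL]; ext i j
    fin_cases i <;> fin_cases j <;> simp [hU]
  have hdU : AutPSL.conjSL d U = U := by
    apply Subtype.ext; rw [AutPSL.coe_conjSL]; ext i j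
    fin_cases i <;> fin_cases j <;> simp [d, hU, Matrix.mul_apply, Fin.sum_univ_three, hdet]
  have hbU : (conjAut d * (fieldAut σ * γ) : MulAut PSL3) (QuotientGroup.mk U : PSL3) = QuotientGroup.mk U := by
    rw [MulAut.mul_apply, MulAut.mul_apply]
    rcases hγ with rfl | ⟨-, rfl⟩
    · rw [MulAut.one_apply, AutPSL.fieldAut_mk, hfU, AutPSL.conjAut_mk, hdU]
    · rw [AutPSL.invT_mk, htU, AutPSL.fieldAut_mk, hfU, AutPSL.conjAut_mk, hdU]
  have finish : ∀ V : SL3, V ^ 3 = 1 → (V.1 0 0 ≠ V.1 1 1 ∨ V.1 0 1 ≠ 0 ∨ V.1 0 2 ≠ 0) →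
      (¬ ∃ r : F, ((V * U : SL3) : Matrix (Fin 3) (Fin 3) F) = r • ((U * V : SL3) : Matrix (Fin 3) (Fin 3) F)) →
      (conjAut d * (fieldAut σ * γ) : MulAut PSL3) (QuotientGroup.mk V : PSL3) = QuotientGroup.mk V → x ∈ S := by
    intro V h3 hne hnc hfix
    refine mem_of_inner_mul e hCN hd hUo (orderOf_mk3 Nat.prime_three h3 hne) (fun h => hnc ?_) hbU hfix
    rw [← QuotientGroup.mk_mul, ← QuotientGroup.mk_mul, mk_eq_mk_iff] at h
    exact h
  have hw0 : w ≠ 0 := fun h => by rw [h, mul_zero] at hw; exact zero_ne_one hw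
  rcases hγ with rfl | ⟨-, rfl⟩
  · obtain ⟨V, hV⟩ : ∃ V : SL3, V.1 = !![1, 0, 0; 0, 0, 1; 0, 1, 1] := ⟨⟨_, by
      rw [Matrix.det_fin_three]; simp; exact hneg⟩, rfl⟩
    refine finish V ?_ (Or.inl (by simp [hV])) ?_ ?_
    · rw [pow_three']; ext i j
      fin_cases i <;> fin_cases j <;> simp [hV, Matrix.mul_apply, Fin.sum_univ_three] <;> linear_combination h2
    · rintro ⟨r, hr⟩
      have e1 := congrFun (congrFun hr 2) 1
      have e0 := congrFun (congrFun hr 0) 0
      simp [hU, hV, Matrix.mul_apply, Fin.sum_univ_three] at e1 e0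
    · rw [mul_one, MulAut.mul_apply, AutPSL.fieldAut_mk, AutPSL.conjAut_mk]
      congr 1
      apply Subtype.ext; rw [AutPSL.coe_conjSL, AutPSL.coe_fieldSL]; ext i j
      fin_cases i <;> fin_cases j <;> simp [d, hV, Matrix.vecMul, dotProduct, Matrix.mul_apply, Fin.sum_univ_three, hdet]
  · have hσw : σ w = w ∨ σ w = w * w := by
      rcases hall (σ w) with h | h | h | h
      · exact absurd ((map_eq_zero_iff σ σ.injective).1 h) hw0
      · exact absurd (σ.injective (h.trans (map_one σ).symm)) hw1
      · exact Or.inl h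
      · exact Or.inr h
    rcases hσw with hσ | hσ
    · have hσc : σ c = c := by
        rcases hall c with h | h | h | h <;> rw [h] <;> simp [hσ]
      obtain ⟨V, hV⟩ : ∃ V : SL3, V.1 = !![0, 0, c * c; c, 0, 0; 0, 1, 0] := ⟨⟨_, by
        rw [Matrix.det_fin_three]; simp; exact hc3⟩, rfl⟩
      have hi : (V⁻¹).1 = !![0, c * c, 0; 0, 0, 1; c, 0, 0] := by
        obtain ⟨W, hW⟩ : ∃ W : SL3, W.1 = !![0, c * c, 0; 0, 0, 1; c, 0, 0] := ⟨⟨_, by
          rw [Matrix.det_fin_three]; simp; exact hc3⟩, rfl⟩
        rw [← hW, inv_eq_of_mul_eq_one_right (show V * W = 1 by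
          ext i j
          fin_cases i <;> fin_cases j <;> simp [hV, hW, Matrix.mul_apply, Fin.sum_univ_three] <;>
            linear_combination hc3)]
      refine finish V ?_ (Or.inr (Or.inr (by simp [hV, hdet]))) ?_ ?_
      · rw [pow_three']; ext i j
        fin_cases i <;> fin_cases j <;> simp [hV, Matrix.mul_apply, Fin.sum_univ_three] <;> linear_combination hc3
      · rintro ⟨r, hr⟩
        have e1 := congrFun (congrFun hr 0) 1
        simp [hU, hV, Matrix.mul_apply, Fin.sum_univ_three, hdet] at e1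
      · rw [MulAut.mul_apply, MulAut.mul_apply, AutPSL.invT_mk, AutPSL.fieldAut_mk, AutPSL.conjAut_mk]
        congr 1
        apply Subtype.ext; rw [AutPSL.coe_conjSL, AutPSL.coe_fieldSL, AutPSL.coe_transInv, hi]; ext i j
        fin_cases i <;> fin_cases j <;>
          simp [d, hV, Matrix.vecMul, dotProduct, Matrix.mul_apply, Fin.sum_univ_three, hdet, hσc, hcinv] <;> linear_combination c * hc3
    · obtain ⟨V, hV⟩ : ∃ V : SL3, V.1 = !![1, 0, 0; 0, w, 0; 0, 0, w * w] := ⟨⟨_, by
        rw [Matrix.det_fin_three]; simp; linear_combination hw⟩, rfl⟩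
      have hi : (V⁻¹).1 = !![1, 0, 0; 0, w * w, 0; 0, 0, w] := by
        obtain ⟨W, hW⟩ : ∃ W : SL3, W.1 = !![1, 0, 0; 0, w * w, 0; 0, 0, w] := ⟨⟨_, by
          rw [Matrix.det_fin_three]; simp; linear_combination hw⟩, rfl⟩
        rw [← hW, inv_eq_of_mul_eq_one_right (show V * W = 1 by
          ext i j
          fin_cases i <;> fin_cases j <;> simp [hV, hW, Matrix.mul_apply, Fin.sum_univ_three] <;>
            linear_combination hw)]
      refine finish V ?_ (Or.inl (by simpa [hV] using fun h => hw1 h.symm)) ?_ ?_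
      · rw [pow_three']; ext i j
        fin_cases i <;> fin_cases j <;> simp [hV, Matrix.mul_apply, Fin.sum_univ_three] <;>
          first | linear_combination hw | linear_combination (w * w * w + 1) * hw
      · rintro ⟨r, hr⟩
        have e1 := congrFun (congrFun hr 1) 2
        have e0 := congrFun (congrFun hr 0) 0
        simp [hU, hV, Matrix.mul_apply, Fin.sum_univ_three] at e1 e0
        rw [← e0, one_mul] at e1
        exact hw1 (mul_left_cancel₀ hw0 (by linear_combination -e1))
      · rw [MulAut.mul_apply, MulAut.mul_apply, AutPSL.invT_mk, AutPSL.fieldAut_mk, AutPSL.conjAut_mk]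
        congr 1
        apply Subtype.ext; rw [AutPSL.coe_conjSL, AutPSL.coe_fieldSL, AutPSL.coe_transInv, hi]; ext i j
        fin_cases i <;> fin_cases j <;>
          simp [d, hV, Matrix.vecMul, dotProduct, Matrix.mul_apply, Fin.sum_univ_three, hdet, hσ] <;>
            linear_combination w * hw

end Three

end Cfsg.Agent.Lib.CNReduce32
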