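import Cfsg.Agent.Lib.CNReduce32.Rigid
import Cfsg.Agent.Lib.CNReduce32.Fixed
import Cfsg.Agent.Lib.CITSuzuki.Classification
import Cfsg.Agent.Lib.CITSuzuki.Lists
import Cfsg.Agent.Lib.Linear.SmallIso.PSL9
import Cfsg.Agent.S2126

/-!
# The structure of nonsolvable CN-groups

Owner: helper32.
-/

set_option autoImplicit false
set_option linter.unusedSectionVars false
set_option linter.style.haveILetI false

namespace Cfsg.Agent.Lib.CNReduce32

open Subgroup
open Cfsg.Agent.Lib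
open Cfsg.Agent.Lib.SzModule (Fpf Layer)

universe uG

variable {G : Type uG} [Group G] [Finite G]

/-- In a CIT-group elements of odd prime order act fixed point freely on normal 2-subgroups. -/
theorem fpf_of_isCIT (h : CIT.IsCIT G) (N : Subgroup G) (hN : IsPGroup 2 N) (g : G) (p : ℕ) (hp : p.Prime)
    (hp2 : p ≠ 2) (hgo : orderOf g = p) (x : G) (hx : x ∈ N) (hc : g * x = x * g) : x = 1 := by
  by_contra hx1
  obtain ⟨k, hk⟩ := IsPGroup.iff_orderOf.1 hN ⟨x, hx⟩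
  rw [Subgroup.orderOf_mk] at hk
  have hd : 2 ∣ orderOf x := by
    rcases k with _ | k
    · rw [pow_zero, orderOf_eq_one_iff] at hk; exact absurd hk hx1
    · rw [hk]; exact dvd_pow_self 2 (by omega)
  have hi := orderOf_pow_orderOf_div (orderOf_pos x).ne' hd
  obtain ⟨j, hj⟩ := IsPGroup.iff_orderOf.1 (h _ hi)
    ⟨g, mem_centralizer_singleton_iff.2 ((show Commute g x from hc).pow_right _).eq⟩
  rw [Subgroup.orderOf_mk, hgo] at hj
  exact hp2 ((Nat.prime_dvd_prime_iff_eq hp Nat.prime_two).1 (hp.dvd_of_dvd_pow (n := j) (by rw [← hj])))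

/-- A nontrivial normal 2-subgroup over a quotient without fixed-point-free modules is impossible. -/
theorem false_of_no_module {G : Type uG} [Group G] [Finite G] (hcit : CIT.IsCIT G) (N : Subgroup G) [N.Normal]
    (hN : IsPGroup 2 N) (hne : N ≠ ⊥) {S : Type*} [Group S] (e : G ⧸ N ≃* S)
    (hkill : ∀ (M : Type uG) [AddCommGroup M] [Finite M], (∀ v : M, 2 • v = 0) →
      ∀ ρ : S →* AddMonoid.End M, (Fpf fun g (v : M) => ρ g v) → ∀ v : M, v = 0) : False := by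
  haveI : Fact (Nat.Prime 2) := ⟨Nat.prime_two⟩
  let X : Subgroup G :=
    { carrier := {x | x ∈ N ∧ (∀ n ∈ N, n * x = x * n) ∧ x * x = 1}
      one_mem' := ⟨one_mem N, fun n _ => by simp, one_mul 1⟩
      mul_mem' := fun {a b} ha hb => ⟨mul_mem ha.1 hb.1, fun n hn => by
        rw [← mul_assoc, ha.2.1 n hn, mul_assoc, hb.2.1 n hn, mul_assoc], by
        calc a * b * (a * b) = a * (b * a * b) := by group
          _ = a * (a * b * b) := by rw [ha.2.1 b hb.1]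
          _ = (a * a) * (b * b) := by group
          _ = 1 := by rw [ha.2.2, hb.2.2, one_mul]⟩
      inv_mem' := fun {a} ha => by
        show a⁻¹ ∈ N ∧ (∀ n ∈ N, n * a⁻¹ = a⁻¹ * n) ∧ a⁻¹ * a⁻¹ = 1
        rw [inv_eq_of_mul_eq_one_left ha.2.2]
        exact ha }
  have hXn : X.Normal := ⟨fun x hx g => ⟨‹N.Normal›.conj_mem x hx.1 g, fun n hn => by
    have h1 := hx.2.1 _ (‹N.Normal›.conj_mem n hn g⁻¹)
    calc n * (g * x * g⁻¹) = g * (g⁻¹ * n * g⁻¹⁻¹ * x) * g⁻¹ := by group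
      _ = g * (x * (g⁻¹ * n * g⁻¹⁻¹)) * g⁻¹ := by rw [h1]
      _ = _ := by group, by
    calc g * x * g⁻¹ * (g * x * g⁻¹) = g * (x * x) * g⁻¹ := by group
      _ = 1 := by rw [hx.2.2]; group⟩⟩
  let L : Layer N := ⟨X, ⊥, fun x hx => hx.1, hXn, inferInstance, fun n hn x hx => by
    rw [mem_bot, hx.2.1 n hn, mul_inv_cancel_right, mul_inv_cancel]⟩
  haveI := hN.isNilpotent
  haveI : Nontrivial N := (nontrivial_iff_ne_bot N).2 hne
  obtain ⟨n, hn, hcard⟩ := hN.nontrivial_iff_card.1 ‹_›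
  obtain ⟨z, hz, hzo, hzc⟩ := CNGroup.MaxNilpotent.exists_central_orderOf ‹Group.IsNilpotent N› Nat.prime_two
    (by rw [hcard]; exact dvd_pow_self 2 hn.ne')
  have hzX : z ∈ X := ⟨hz, hzc, by rw [← pow_two, ← hzo, pow_orderOf_eq_one]⟩
  have h2 : ∀ v : L.Q, 2 • v = 0 := fun v => by
    obtain ⟨x, rfl⟩ := L.cls_surjective v
    have h' : L.cls (x * x) = 0 := L.cls_eq_zero.2 (mem_bot.2 (x.2.2.2))
    rw [two_nsmul, ← h']; rfl
  have h0 := hkill L.Q h2 (L.rep e) (L.fpf hN e (fpf_of_isCIT hcit N hN)) (L.cls ⟨z, hzX⟩)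
  have h1 : z = 1 := mem_bot.1 (L.cls_eq_zero.1 h0)
  rw [h1, orderOf_one] at hzo
  omega

/-- The socle of `G ⧸ O₂(G)` has no fixed-point-free module, so `O₂(G)` is trivial. -/
theorem pCore_eq_bot (hcit : CIT.IsCIT G) (S : Subgroup (G ⧸ Cfsg.pCore 2 G)) {P : Type*} [Group P]
    (e : S ≃* P) (hkill : ∀ (M : Type uG) [AddCommGroup M] [Finite M], (∀ v : M, 2 • v = 0) →
      ∀ ρ : P →* AddMonoid.End M, (Fpf fun g (v : M) => ρ g v) → ∀ v : M, v = 0) :
    Cfsg.pCore 2 G = ⊥ := by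
  haveI : Fact (Nat.Prime 2) := ⟨Nat.prime_two⟩
  by_contra hne
  set f := QuotientGroup.mk' (Cfsg.pCore 2 G)
  set G1 := S.comap f
  have hsurj : Function.Surjective (f.subgroupComap S) := fun s => by
    obtain ⟨g, hg⟩ := QuotientGroup.mk'_surjective (Cfsg.pCore 2 G) (s : G ⧸ Cfsg.pCore 2 G)
    exact ⟨⟨g, by rw [Subgroup.mem_comap, hg]; exact s.2⟩, Subtype.ext hg⟩
  have hle : Cfsg.pCore 2 G ≤ G1 := fun x hx => by
    rw [Subgroup.mem_comap, show f x = 1 from (QuotientGroup.eq_one_iff x).2 hx]; exact one_mem S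
  have hker : (f.subgroupComap S).ker = (Cfsg.pCore 2 G).subgroupOf G1 := by
    ext x
    rw [MonoidHom.mem_ker, Subgroup.mem_subgroupOf, ← QuotientGroup.eq_one_iff, Subtype.ext_iff]
    rfl
  have hN : IsPGroup 2 (f.subgroupComap S).ker := by
    rw [hker]
    exact (Cores.pCore_isPGroup (G := G) 2).of_equiv (Subgroup.subgroupOfEquivOfLe hle).symm
  refine false_of_no_module (CITReduce.isCIT_subgroup hcit G1) _ hN ?_
    ((QuotientGroup.quotientKerEquivOfSurjective _ hsurj).trans e) hkill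
  rw [hker, ne_eq, Subgroup.subgroupOf_eq_bot]
  exact fun hd => hne (disjoint_self.1 (hd.mono_right hle))

/-- No fixed-point-free modules over `PSL₂(p)`. -/
theorem kill_prime {F : Type} [Field F] [Fintype F] (h7 : 7 ≤ Fintype.card F) (hp : (Fintype.card F).Prime)
    {k : ℕ} (hk : Fintype.card F = 2 ^ k + 1 ∨ Fintype.card F + 1 = 2 ^ k)
    (M : Type uG) [AddCommGroup M] [Finite M] (h2 : ∀ v : M, 2 • v = 0)
    (ρ : Matrix.ProjectiveSpecialLinearGroup (Fin 2) F →* AddMonoid.End M)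
    (hfpf : Fpf fun g (v : M) => ρ g v) : ∀ v : M, v = 0 := by
  have hodd : Odd (Fintype.card F) := hp.odd_of_ne_two (by omega)
  haveI : IsSimpleGroup (Matrix.ProjectiveSpecialLinearGroup (Fin 2) F) :=
    Linear.isSimpleGroup_PSL le_rfl fun _ => by rw [Nat.card_eq_fintype_card]; omega
  obtain ⟨h, hh⟩ := exists_orderOf_four (F := F) hodd h7 hk
  exact eq_zero_of_four ρ h2 hfpf orderOf_a3 orderOf_b3
    (closure_a3_b3 hp (Linear.two_ne_zero_of_odd_card hodd)) hh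

/-- Elementary abelian kernels over `PSL₂(2ⁿ)`. -/
theorem elementary_char_two {F : Type} [Field F] [Fintype F] [CharP F 2] (h4 : 4 ≤ Fintype.card F)
    (hcit : CIT.IsCIT G) (N : Subgroup G) [N.Normal] (hN : IsPGroup 2 N)
    (e : G ⧸ N ≃* Matrix.ProjectiveSpecialLinearGroup (Fin 2) F) :
    IsMulCommutative N ∧ ∀ x ∈ N, x * x = 1 := by
  haveI : IsSimpleGroup (Matrix.ProjectiveSpecialLinearGroup (Fin 2) F) :=
    Linear.isSimpleGroup_PSL le_rfl fun _ => by rwa [Nat.card_eq_fintype_card]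
  obtain ⟨a, b, t, ha, hb, ht, htab, hne⟩ := exists_three_pair (F := F) h4
  exact SzModule.elementary_abelian_of
    (fun M _ _ hM ρ hf => SzModule.two_smul_eq_zero_of_pow_of
      (fun M' _ _ h4' ρ' hf' v => two_smul_of_four ρ' h4' hf' ha hb ht htab hne v) hM ρ hf)
    (fun A B C _ _ _ _ _ _ hA hB hC ρA ρB ρC fA fB fC c hc =>
      pairing_zero ⟨t, a, hne⟩ ha hA hB hC ρA ρB ρC fA fB fC c hc)
    N hN e (fpf_of_isCIT hcit N hN)

/-- The quotient by `O₂` is `PSL₂(2ⁿ)`. -/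
theorem of_char_two (hcit : CIT.IsCIT G) (hCN : Cfsg.IsCNGroup (G ⧸ Cfsg.pCore 2 G))
    (S : Subgroup (G ⧸ Cfsg.pCore 2 G)) [S.Normal] {F : Type} [Field F] [Fintype F] [CharP F 2]
    (h4 : 4 ≤ Fintype.card F) (e : ↥S ≃* Matrix.ProjectiveSpecialLinearGroup (Fin 2) F) :
    S = ⊤ ∧ IsMulCommutative (Cfsg.pCore 2 G) ∧ (∀ x ∈ Cfsg.pCore 2 G, x * x = 1) ∧
      Nonempty (G ⧸ Cfsg.pCore 2 G ≃* Matrix.ProjectiveSpecialLinearGroup (Fin 2) F) := by
  haveI : Fact (Nat.Prime 2) := ⟨Nat.prime_two⟩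
  have hS := eq_top_of_char_two e hCN
  let e' := (Subgroup.topEquiv.symm.trans (MulEquiv.subgroupCongr hS.symm)).trans e
  obtain ⟨h1, h2⟩ := elementary_char_two h4 hcit _ (Cores.pCore_isPGroup (G := G) 2) e'
  exact ⟨hS, h1, h2, ⟨e'⟩⟩

/-- The Suzuki case. -/
theorem of_suzuki (hcit : CIT.IsCIT G) (S : Subgroup (G ⧸ Cfsg.pCore 2 G)) [S.Normal] [IsSimpleGroup S]
    (hna : ¬ IsMulCommutative S) (hC : centralizer (S : Set (G ⧸ Cfsg.pCore 2 G)) = ⊥)
    (hS : Cfsg.Lie.IsoSuzuki S) :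
    S = ⊤ ∧ IsMulCommutative (Cfsg.pCore 2 G) ∧ (∀ x ∈ Cfsg.pCore 2 G, x * x = 1) ∧
      Cfsg.IsSuzuki (G ⧸ Cfsg.pCore 2 G) := by
  haveI : Fact (Nat.Prime 2) := ⟨Nat.prime_two⟩
  obtain ⟨K, iK, iK', m, hm, hK, ⟨e⟩⟩ := hS
  have hk : LieTwisted.Suzuki.IsSzField K m := ⟨hK⟩
  let eS : S ≃* Cfsg.Sz K m := e.trans (LieTwisted.Suzuki.szEquiv hk hm).symm
  have hLc : Subgroup.center ↥(Cfsg.Lie.Sz K (2 ^ (m + 1))) = ⊥ := by
    have hZ := FTClassSize.center_eq_bot_of_simple hna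
    rw [Subgroup.eq_bot_iff_forall]
    intro x hx
    have : e.symm x ∈ Subgroup.center S := Subgroup.mem_center_iff.2 fun y => e.injective (by
      rw [map_mul, map_mul, e.apply_symm_apply, Subgroup.mem_center_iff.1 hx (e y)])
    rw [hZ, Subgroup.mem_bot] at this
    simpa using congrArg e this
  have hidx : Odd S.index := by
    have hd := Subgroup.card_dvd_of_injective _ (induced_injective e hC)
    rw [CITReduce.SuzukiGraph.card_mulAut hLc, S2126.result hm hK, ← Nat.card_congr e.toEquiv,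
      ← Subgroup.index_mul_card S] at hd
    exact (odd_two_mul_add_one m).of_dvd_nat (Nat.dvd_of_mul_dvd_mul_right Nat.card_pos hd)
  have hcl : ∀ s t : S, orderOf s = 2 → orderOf t = 2 → IsConj s t := by
    intro s t hs ht
    obtain ⟨c, hc⟩ := isConj_iff.1 (CITReduce.SuzukiGraph.isConj_involutions hk hm (s := eS s) (t := eS t)
      (by rw [MulEquiv.orderOf_eq, hs]) (by rw [MulEquiv.orderOf_eq, ht]))
    exact isConj_iff.2 ⟨eS.symm c, eS.injective (by simp [hc])⟩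
  have heven : ∃ t : S, orderOf t = 2 := CITReduce.exists_involution_of_not_isSolvable fun hs =>
    hna ⟨⟨IsSimpleGroup.comm_iff_isSolvable.2 hs⟩⟩
  have hStop := CITReduce.eq_top_of_odd_index (CITReduce.isCIT_quotient hcit _) S hidx heven hcl
  let e' := (Subgroup.topEquiv.symm.trans (MulEquiv.subgroupCongr hStop.symm)).trans eS
  obtain ⟨h1, h2⟩ := SzModule.elementary_abelian hk hm (Cfsg.pCore 2 G) (Cores.pCore_isPGroup (G := G) 2) e'
    (fpf_of_isCIT hcit _ (Cores.pCore_isPGroup (G := G) 2))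
  refine ⟨hStop, h1, h2, (Subgroup.topEquiv.symm.trans (MulEquiv.subgroupCongr hStop.symm)).isSimpleGroup,
    m, hm, ?_⟩
  rw [Nat.card_congr e'.toEquiv, hk.card_group hm, hK]

/-- The cases. -/
theorem structure_of_nonsolvable (hCN : Cfsg.IsCNGroup G) (hns : ¬ Group.IsSolvable G) :
    (Cfsg.pCore 2 G = ⊥ ∧ ∃ S : Subgroup (G ⧸ Cfsg.pCore 2 G), S.Normal ∧ IsSimpleGroup S ∧
        ¬ IsMulCommutative S ∧ (S = ⊤ ∨ (S.index = 2 ∧ ∃ (F : Type) (_ : Field F) (_ : Fintype F),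
          Fintype.card F = 9 ∧ Nonempty (↥S ≃* Matrix.ProjectiveSpecialLinearGroup (Fin 2) F)))) ∨
    (IsMulCommutative (Cfsg.pCore 2 G) ∧ (∀ x ∈ Cfsg.pCore 2 G, x * x = 1) ∧
      ((∃ (F : Type) (_ : Field F) (_ : Fintype F), CharP F 2 ∧ 4 ≤ Fintype.card F ∧
          Nonempty (G ⧸ Cfsg.pCore 2 G ≃* Matrix.ProjectiveSpecialLinearGroup (Fin 2) F)) ∨
        Cfsg.IsSuzuki (G ⧸ Cfsg.pCore 2 G))) := by
  haveI : Fact (Nat.Prime 2) := ⟨Nat.prime_two⟩
  have hcit := isCIT hCN hns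
  haveI := (Cores.pCore_isPGroup (G := G) 2).isNilpotent
  have hCNq : Cfsg.IsCNGroup (G ⧸ Cfsg.pCore 2 G) :=
    CNGroup.Quotient.isCNGroup_quotient hCN _ inferInstance
  obtain ⟨S, hSn, hsim, hna, hC⟩ := exists_socle_quotient hCN hns
  haveI := hSn
  haveI := hsim
  have hne : ∃ a b : S, a * b ≠ b * a := by
    by_contra hc
    push Not at hc
    exact hna ⟨⟨hc⟩⟩
  rcases CITSuzuki.simpleCITClass S hne (CITReduce.isCIT_subgroup (CITReduce.isCIT_quotient hcit _) S) with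
    ⟨F, iF, iT, hF, ⟨e⟩⟩ | ⟨F, iF, iT, hF, ⟨e⟩⟩ | hsz
  · have h4 := CITSuzuki.Lists.five_le_of_simple hne e
    rcases hF with h9 | ⟨n, hn⟩ | ⟨hp, k, hk⟩
    · refine Or.inl ⟨pCore_eq_bot hcit S e fun M _ _ h2 ρ hf => ?_, S, hSn, hsim, hna, ?_⟩
      · haveI : CharP F 3 := by
          obtain ⟨q, hq⟩ := CharP.exists F
          obtain ⟨n, hqp, hn⟩ := FiniteField.card F q
          have : q ∣ 9 := by rw [← h9, hn]; exact dvd_pow_self q n.ne_zero
          have h3 : q = 3 := (Nat.prime_dvd_prime_iff_eq hqp Nat.prime_three).1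
            (hqp.dvd_of_dvd_pow (show q ∣ 3 ^ 2 from this))
          exact h3 ▸ hq
        obtain ⟨a, b, hab, h1, h1', h3, h4'⟩ := exists_nine_psl2 (F := F) (by omega)
        exact fun v => eq_zero_of_nine ρ hf hab h1 h1' h3 h4' v ⟨1, by rw [pow_one, h2]⟩
      · rcases index_le_two e h9 hCNq hC with hi | hi
        · exact Or.inl (index_eq_one.1 hi)
        · exact Or.inr ⟨hi, F, iF, iT, h9, ⟨e⟩⟩
    · haveI : CharP F 2 := by
        obtain ⟨q, hq⟩ := CharP.exists F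
        obtain ⟨j, hqp, hj⟩ := FiniteField.card F q
        have : q ∣ 2 ^ n := by rw [← hn, hj]; exact dvd_pow_self q j.ne_zero
        exact (Nat.prime_dvd_prime_iff_eq hqp Nat.prime_two).1 (hqp.dvd_of_dvd_pow this) ▸ hq
      obtain ⟨-, h1, h2, he⟩ := of_char_two hcit hCNq S h4 e
      exact Or.inr ⟨h1, h2, Or.inl ⟨F, iF, iT, inferInstance, h4, he⟩⟩
    · by_cases h5 : Fintype.card F = 5
      · obtain ⟨K, iK, iK', hK, ⟨e'⟩⟩ := CITSuzuki.Lists.psl_two_five_to_four h5 e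
        haveI : CharP K 2 := by
          obtain ⟨q, hq⟩ := CharP.exists K
          obtain ⟨j, hqp, hj⟩ := FiniteField.card K q
          have : q ∣ 2 ^ 2 := by rw [show 2 ^ 2 = 4 from rfl, ← hK, hj]; exact dvd_pow_self q j.ne_zero
          exact (Nat.prime_dvd_prime_iff_eq hqp Nat.prime_two).1 (hqp.dvd_of_dvd_pow this) ▸ hq
        obtain ⟨-, h1, h2, he⟩ := of_char_two hcit hCNq S hK.ge e'
        exact Or.inr ⟨h1, h2, Or.inl ⟨K, iK, iK', inferInstance, hK.ge, he⟩⟩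
      · have h7 : 7 ≤ Fintype.card F := by
          rcases eq_or_ne (Fintype.card F) 4 with h | h
          · rw [h] at hp; norm_num at hp
          rcases eq_or_ne (Fintype.card F) 6 with h' | h'
          · rw [h'] at hp; norm_num at hp
          omega
        exact Or.inl ⟨pCore_eq_bot hcit S e (kill_prime h7 hp hk), S, hSn, hsim, hna,
          Or.inl (eq_top_of_prime e hCNq h7 hp hk)⟩
  · obtain ⟨w, hw, hw1, -⟩ := exists_cube_root hF
    obtain ⟨a, b, hab, h1, h1', h3, h4'⟩ := exists_nine_psl3 hw hw1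
    exact Or.inl ⟨pCore_eq_bot hcit S e fun M _ _ h2 ρ hf v =>
        eq_zero_of_nine ρ hf hab h1 h1' h3 h4' v ⟨1, by rw [pow_one, h2]⟩,
      S, hSn, hsim, hna, Or.inl (eq_top_of_three_four e hF hCNq)⟩
  · obtain ⟨-, h1, h2, h3⟩ := of_suzuki hcit S hna hC hsz
    exact Or.inr ⟨h1, h2, Or.inr h3⟩

end Cfsg.Agent.Lib.CNReduce32
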