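import Cfsg.Agent.Lib.CNReduce32.Basic
import Cfsg.Agent.Lib.CITReduce.SuzukiGraph
import Cfsg.Agent.Lib.CITSuzuki.Orders
import Cfsg.Agent.Lib.AutPSL.Main
import Cfsg.Agent.Lib.SelfNorm.SLTwo
import Cfsg.Agent.Lib.Linear.Simple

/-!
# Elements of order three in `PSL₂` and `PSL₃(4)`

* two elements of order three generating `PSL₂(p)`, and an element of order four;
* two elements of order three of `PSL₂(2ⁿ)` generating a subgroup with an involution;
* subgroups of type `3 × 3` in `PSL₂` of characteristic three and in `PSL₃(4)`.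

Owner: helper32.
-/

set_option autoImplicit false
set_option linter.unusedSectionVars false
set_option linter.style.haveILetI false

namespace Cfsg.Agent.Lib.CNReduce32

open Matrix Subgroup
open Cfsg.Agent.Lib
open Cfsg.Agent.Lib.AutPSL (mk_eq_mk_iff)
open Cfsg.Agent.Lib.PSLTwo.Sylow (mk2 slExt)

variable {F : Type} [Field F]

local notation "SL2" => Matrix.SpecialLinearGroup (Fin 2) F
local notation "PSL2" => Matrix.ProjectiveSpecialLinearGroup (Fin 2) F

theorem mk_ne_one {s : SL2} (h : s.1 0 1 ≠ 0) : (QuotientGroup.mk s : PSL2) ≠ 1 := by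
  rw [← QuotientGroup.mk_one, ne_comm, ne_eq, mk_eq_mk_iff]
  rintro ⟨c, hc⟩
  exact h (by rw [hc]; simp)

theorem mk_eq_of_neg {s t : SL2} (h : s.1 = -t.1) : (QuotientGroup.mk s : PSL2) = QuotientGroup.mk t :=
  (mk_eq_mk_iff s t).2 ⟨-1, by rw [h]; simp⟩

/-- The first element of order three. -/
def a3 : SL2 := mk2 0 (-1) 1 1 (by ring)

/-- The second element of order three. -/
def b3 : SL2 := mk2 1 (-1) 1 0 (by ring)

theorem orderOf_a3 : orderOf (QuotientGroup.mk a3 : PSL2) = 3 := by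
  haveI : Fact (Nat.Prime 3) := ⟨Nat.prime_three⟩
  refine orderOf_eq_prime ?_ (mk_ne_one (by simp [a3, mk2]))
  rw [← QuotientGroup.mk_pow, ← QuotientGroup.mk_one]
  refine mk_eq_of_neg ?_
  rw [pow_three']
  ext i j
  fin_cases i <;> fin_cases j <;> simp [a3, Matrix.mul_apply, Fin.sum_univ_two]

theorem orderOf_b3 : orderOf (QuotientGroup.mk b3 : PSL2) = 3 := by
  haveI : Fact (Nat.Prime 3) := ⟨Nat.prime_three⟩
  refine orderOf_eq_prime ?_ (mk_ne_one (by simp [b3, mk2]))
  rw [← QuotientGroup.mk_pow, ← QuotientGroup.mk_one]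
  refine mk_eq_of_neg ?_
  rw [pow_three']
  ext i j
  fin_cases i <;> fin_cases j <;> simp [b3, Matrix.mul_apply, Fin.sum_univ_two]

/-- Two elements of order three generating `PSL₂(p)`. -/
theorem closure_a3_b3 [Fintype F] (hp : (Fintype.card F).Prime) (h2 : (2 : F) ≠ 0) :
    closure ({(QuotientGroup.mk a3 : PSL2), QuotientGroup.mk b3} : Set PSL2) = ⊤ := by
  set K := closure ({(QuotientGroup.mk a3 : PSL2), QuotientGroup.mk b3} : Set PSL2)
  have ha : (QuotientGroup.mk a3 : PSL2) ∈ K := subset_closure (Or.inl rfl)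
  have hb : (QuotientGroup.mk b3 : PSL2) ∈ K := subset_closure (Or.inr rfl)
  have hu : (QuotientGroup.mk ((SpecialLinearGroup.transvection (show (0 : Fin 2) ≠ 1 by decide) (2 : F) : SL2)) : PSL2) ∈ K := by
    have := mul_mem hb ha
    rw [← QuotientGroup.mk_mul] at this
    refine (mk_eq_of_neg (F := F) (t := b3 * a3) ?_).symm ▸ this
    ext x y
    fin_cases x <;> fin_cases y <;>
      simp [a3, b3, Matrix.mul_apply, Fin.sum_univ_two, SpecialLinearGroup.transvection_coe] <;> ring
  have hd : (QuotientGroup.mk ((SpecialLinearGroup.transvection (show (1 : Fin 2) ≠ 0 by decide) (-2 : F) : SL2)) : PSL2) ∈ K := by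
    have := mul_mem ha hb
    rw [← QuotientGroup.mk_mul] at this
    refine (mk_eq_of_neg (F := F) (t := a3 * b3) ?_).symm ▸ this
    ext x y
    fin_cases x <;> fin_cases y <;>
      simp [a3, b3, Matrix.mul_apply, Fin.sum_univ_two, SpecialLinearGroup.transvection_coe] <;> ring
  refine eq_top_iff.2 fun x hx => ?_
  clear hx
  obtain ⟨s, rfl⟩ := QuotientGroup.mk_surjective x
  induction s using AutPSL.transvection_induction with
  | hmul A B hA hB => rw [QuotientGroup.mk_mul]; exact mul_mem hA hB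
  | htr i j hij c =>
    let L : AddSubgroup F :=
      { carrier := {t | AutPSL.xr i j t ∈ K}
        zero_mem' := by
          show AutPSL.xr i j (0 : F) ∈ K
          have e : AutPSL.xr i j (0 : F) * AutPSL.xr i j (0 : F) = AutPSL.xr i j (0 : F) := by
            rw [← AutPSL.xr_add hij, add_zero]
          rw [mul_eq_left.1 e]; exact one_mem K
        add_mem' := fun {s t} hs ht => by
          show AutPSL.xr i j (s + t) ∈ K
          rw [AutPSL.xr_add hij]; exact mul_mem hs ht
        neg_mem' := fun {s} hs => by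
          show AutPSL.xr i j (-s) ∈ K
          have e : AutPSL.xr i j (-s) * AutPSL.xr i j s = 1 := by
            rw [← AutPSL.xr_add hij, neg_add_cancel]
            have e0 : AutPSL.xr i j (0 : F) * AutPSL.xr i j (0 : F) = AutPSL.xr i j (0 : F) := by
              rw [← AutPSL.xr_add hij, add_zero]
            exact mul_eq_left.1 e0
          rw [eq_inv_of_mul_eq_one_left e]; exact inv_mem hs }
    have hmem : (if i = 0 then (2 : F) else -2) ∈ L := by
      show AutPSL.xr i j _ ∈ K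
      rw [AutPSL.xr_eq_mk hij]
      fin_cases i <;> fin_cases j
      · exact absurd rfl hij
      · exact hu
      · exact hd
      · exact absurd rfl hij
    haveI : Fact (Nat.card F).Prime := ⟨by rwa [Nat.card_eq_fintype_card]⟩
    rcases L.eq_bot_or_eq_top_of_prime_card with hb' | ht
    · rw [hb', AddSubgroup.mem_bot] at hmem
      split_ifs at hmem
      · exact absurd hmem h2
      · exact absurd (neg_eq_zero.1 hmem) h2
    · have : c ∈ L := ht ▸ AddSubgroup.mem_top c
      rw [← AutPSL.xr_eq_mk hij]; exact this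

/-- An element of order four of `PSL₂(p)` for a Fermat or Mersenne prime `p ≥ 7`. -/
theorem exists_orderOf_four [Fintype F] (hodd : Odd (Fintype.card F)) (h7 : 7 ≤ Fintype.card F) {k : ℕ}
    (hk : Fintype.card F = 2 ^ k + 1 ∨ Fintype.card F + 1 = 2 ^ k) :
    ∃ h : PSL2, orderOf h = 4 := by
  obtain ⟨⟨x, hx, -⟩, y, hy, -⟩ := CITSuzuki.Orders.psl_two_odd (F := F) hodd
  have hk3 : 3 ≤ k := by
    by_contra hlt
    interval_cases k <;> norm_num at hk <;> omega
  obtain ⟨j, rfl⟩ := Nat.exists_eq_add_of_le hk3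
  have h8 : 2 ^ (3 + j) = 8 * 2 ^ j := by rw [pow_add]; norm_num
  rcases hk with hk | hk
  · exact ⟨_, orderOf_pow_orderOf_div (orderOf_pos x).ne'
      ((show 4 ∣ (Fintype.card F - 1) / 2 from ⟨2 ^ j, by omega⟩).trans hx)⟩
  · exact ⟨_, orderOf_pow_orderOf_div (orderOf_pos y).ne'
      ((show 4 ∣ (Fintype.card F + 1) / 2 from ⟨2 ^ j, by omega⟩).trans hy)⟩

section CharTwo

variable [Fintype F] [CharP F 2]

open Cfsg.Agent.Lib.SelfNorm.Basic (CommSub)

/-- Two elements of order three of `SL₂(2ⁿ)` with an involution among their products. -/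
theorem exists_three_pair (h4 : 4 ≤ Fintype.card F) :
    ∃ a b t : PSL2, orderOf a = 3 ∧ orderOf b = 3 ∧ orderOf t = 2 ∧ t ∈ closure ({a, b} : Set PSL2) ∧
      t * a ≠ a * t := by
  haveI : IsSimpleGroup PSL2 := Linear.isSimpleGroup_PSL le_rfl fun _ => by rwa [Nat.card_eq_fintype_card]
  obtain ⟨e⟩ := SuzukiAbelian.nonempty_sl_equiv_psl (F := F)
  haveI : IsSimpleGroup SL2 := e.isSimpleGroup
  have hnc : ∃ x y : SL2, x * y ≠ y * x := by
    refine ⟨mk2 1 1 0 1 (by ring), mk2 1 0 1 1 (by ring), fun he => ?_⟩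
    have := congrArg (fun m : SL2 => m.1 0 0) he
    simp [Matrix.mul_apply, Fin.sum_univ_two] at this
  haveI : Fact (Nat.Prime 3) := ⟨Nat.prime_three⟩
  haveI : Fact (Nat.Prime 2) := ⟨Nat.prime_two⟩
  obtain ⟨a, ha⟩ := exists_prime_orderOf_dvd_card' (G := SL2) 3
    (by rw [Nat.card_congr e.toEquiv]; exact CITReduce.SuzukiGraph.three_dvd_psl2 F)
  have ha1 : a ≠ 1 := fun h => by rw [h, orderOf_one] at ha; omega
  obtain ⟨g, hg⟩ : ∃ g : SL2, a * (g * a * g⁻¹) ≠ (g * a * g⁻¹) * a := by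
    by_contra hc
    push Not at hc
    have hle : normalClosure ({a} : Set SL2) ≤ centralizer ({a} : Set SL2) := by
      refine (closure_le _).2 fun x hx => ?_
      obtain ⟨y, hy, hyx⟩ := Group.mem_conjugatesOfSet_iff.1 hx
      rw [Set.mem_singleton_iff] at hy
      subst hy
      obtain ⟨g, rfl⟩ := isConj_iff.1 hyx
      exact mem_centralizer_singleton_iff.2 (hc g).symm
    rcases (normalClosure_normal (s := ({a} : Set SL2))).eq_bot_or_eq_top with hb | ht
    · have := subset_normalClosure (Set.mem_singleton a)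
      rw [hb] at this
      exact ha1 (mem_bot.1 this)
    · obtain ⟨x, y, hxy⟩ := hnc
      exact hxy (SelfNorm.SLTwo.comm_centralizer ha1 x (hle (ht ▸ mem_top x)) y (hle (ht ▸ mem_top y)))
  set b := g * a * g⁻¹ with hb
  have hbo : orderOf b = 3 := by rw [hb, ← MulAut.conj_apply, MulEquiv.orderOf_eq, ha]
  set H := closure ({a, b} : Set SL2) with hH
  have haH : a ∈ H := subset_closure (Or.inl rfl)
  have hbH : b ∈ H := subset_closure (Or.inr rfl)
  have heven : 2 ∣ Nat.card H := by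
    by_contra h2
    have hodd : Odd (Nat.card H) := Nat.not_even_iff_odd.1 fun he => h2 he.two_dvd
    haveI : Group.IsSolvable H := Cfsg.Agent.S0205.result hodd
    obtain ⟨K, hKH, hK1, hKc, hKn⟩ := SelfNorm.SLTwo.exists_comm_derived
      (H := H) (fun hc => hg (hc a haH b hbH))
    obtain ⟨x, hx, hx1⟩ := K.bot_or_exists_ne_one.resolve_left hK1
    have hx2 : x * x ≠ 1 := fun e2 => by
      have h1 : orderOf x ∣ 2 := orderOf_dvd_of_pow_eq_one (by rw [pow_two]; exact e2)
      rcases (Nat.dvd_prime Nat.prime_two).1 h1 with h | h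
      · exact hx1 (orderOf_eq_one_iff.1 h)
      · have hd := Subgroup.orderOf_dvd_natCard H (hKH hx)
        rw [h] at hd
        exact h2 hd
    have key : ∀ c ∈ H, orderOf c = 3 → c ∈ centralizer ({x} : Set SL2) := by
      intro c hc hco
      have hcK := hKn (le_normalizer hc)
      have hy : c * x * c⁻¹ ∈ K := (mem_normalizer_iff.1 hcK x).1 hx
      have hyc : c * x * c⁻¹ ∈ centralizer ({x} : Set SL2) :=
        mem_centralizer_singleton_iff.2 (hKc _ hy _ hx)
      have hC := SelfNorm.SLTwo.centralizer_eq hx1 (by simpa using hx1) hyc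
      have hnorm : c ∈ normalizer (centralizer ({x} : Set SL2) : Set SL2) := by
        refine mem_normalizer_iff.2 fun y => ?_
        conv_rhs => rw [← hC]
        rw [mem_centralizer_singleton_iff, mem_centralizer_singleton_iff,
          show c * y * c⁻¹ * (c * x * c⁻¹) = c * (y * x) * c⁻¹ by group,
          show c * x * c⁻¹ * (c * y * c⁻¹) = c * (x * y) * c⁻¹ by group, mul_left_inj, mul_right_inj]
      rcases SelfNorm.SLTwo.inverts hx2 hnorm with h | h
      · exact h
      have hi := h x (mem_centralizer_singleton_iff.2 rfl)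
      have h2' : c * c * x * (c * c)⁻¹ = x := by
        calc c * c * x * (c * c)⁻¹ = c * (c * x * c⁻¹) * c⁻¹ := by group
          _ = c * x⁻¹ * c⁻¹ := by rw [hi]
          _ = (c * x * c⁻¹)⁻¹ := by group
          _ = x := by rw [hi, inv_inv]
      have hcc : c * c ∈ centralizer ({x} : Set SL2) :=
        mem_centralizer_singleton_iff.2 (mul_inv_eq_iff_eq_mul.1 h2')
      have : c = c * c * (c * c) := by
        rw [show c * c * (c * c) = c ^ 3 * c by simp [pow_succ, mul_assoc], ← hco, pow_orderOf_eq_one, one_mul]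
      rw [this]; exact mul_mem hcc hcc
    exact hg (SelfNorm.SLTwo.comm_centralizer hx1 a (key a haH ha) b (key b hbH hbo))
  obtain ⟨t, ht⟩ := exists_prime_orderOf_dvd_card' (G := H) 2 heven
  have htS : orderOf (t : SL2) = 2 := by rw [Subgroup.orderOf_coe, ht]
  refine ⟨e a, e b, e t, by rw [MulEquiv.orderOf_eq, ha], by rw [MulEquiv.orderOf_eq, hbo],
    by rw [MulEquiv.orderOf_eq, htS], ?_, ?_⟩
  · have hmem : e (t : SL2) ∈ H.map e.toMonoidHom := ⟨t, t.2, rfl⟩
    have hmap : H.map e.toMonoidHom = closure ({e a, e b} : Set PSL2) := by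
      rw [hH, MonoidHom.map_closure, Set.image_pair]; rfl
    exact hmap.le hmem
  · intro he
    rw [← map_mul, ← map_mul] at he
    have hns : ¬ Group.IsSolvable SL2 := fun hs => by
      obtain ⟨x, y, hxy⟩ := hnc
      exact hxy (IsSimpleGroup.comm_iff_isSolvable.2 hs x y)
    obtain ⟨k, hk⟩ := IsPGroup.iff_orderOf.1 (isCIT (SelfNorm.SLTwo.isCNGroup_SL (F := F)) hns _ htS)
      ⟨a, mem_centralizer_singleton_iff.2 (e.injective he).symm⟩
    rw [Subgroup.orderOf_mk, ha] at hk
    have := Nat.prime_three.dvd_of_dvd_pow (hk ▸ dvd_rfl : 3 ∣ 2 ^ k)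
    norm_num at this

end CharTwo

/-- A subgroup of type `3 × 3` in characteristic three. -/
theorem exists_nine_psl2 [Fintype F] [CharP F 3] (h9 : 3 < Fintype.card F) :
    ∃ a b : PSL2, a * b = b * a ∧ orderOf a = 3 ∧ orderOf b = 3 ∧ orderOf (a * b) = 3 ∧
      orderOf (a * a * b) = 3 := by
  haveI : Fact (Nat.Prime 3) := ⟨Nat.prime_three⟩
  have h01 : (0 : Fin 2) ≠ 1 := by decide
  have h0 : (AutPSL.xr (0 : Fin 2) 1 (0 : F) : PSL2) = 1 := by
    have e : (AutPSL.xr (0 : Fin 2) 1 (0 : F) : PSL2) * (AutPSL.xr (0 : Fin 2) 1 (0 : F) : PSL2) = (AutPSL.xr (0 : Fin 2) 1 (0 : F) : PSL2) := by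
      rw [← AutPSL.xr_add h01, add_zero]
    exact mul_eq_left.1 e
  have h3 : ∀ c : F, c ≠ 0 → orderOf (AutPSL.xr (0 : Fin 2) 1 c : PSL2) = 3 := by
    intro c hc
    refine orderOf_eq_prime ?_ fun e => hc (AutPSL.xr_injective le_rfl h01 (e.trans h0.symm))
    rw [pow_three', ← AutPSL.xr_add h01, ← AutPSL.xr_add h01, ← h0]
    congr 1
    have : (3 : F) = 0 := CharP.cast_eq_zero F 3
    linear_combination c * this
  obtain ⟨t, ht0, ht1, ht2⟩ : ∃ t : F, t ≠ 0 ∧ t ≠ -1 ∧ t ≠ -2 := by
    classical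
    by_contra hc
    push Not at hc
    have hle : (Finset.univ : Finset F) ⊆ {0, -1, -2} := fun x _ => by
      rcases eq_or_ne x 0 with h | h
      · simp [h]
      · rcases eq_or_ne x (-1) with h' | h'
        · simp [h']
        · simp [hc x h h']
    have := (Finset.card_le_card hle).trans Finset.card_le_three
    rw [Finset.card_univ] at this
    omega
  refine ⟨AutPSL.xr (0 : Fin 2) 1 1, AutPSL.xr (0 : Fin 2) 1 t, ?_, h3 1 one_ne_zero, h3 t ht0, ?_, ?_⟩
  · rw [← AutPSL.xr_add h01, ← AutPSL.xr_add h01, add_comm]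
  · rw [← AutPSL.xr_add h01]; exact h3 _ fun h => ht1 (by linear_combination h)
  · rw [← AutPSL.xr_add h01, ← AutPSL.xr_add h01]; exact h3 _ fun h => ht2 (by linear_combination h)

section ThreeFour

local notation "SL3" => Matrix.SpecialLinearGroup (Fin 3) F
local notation "PSL3" => Matrix.ProjectiveSpecialLinearGroup (Fin 3) F

theorem mk3_ne_one {s : SL3} (h : s.1 0 0 ≠ s.1 1 1 ∨ s.1 0 1 ≠ 0 ∨ s.1 0 2 ≠ 0) :
    (QuotientGroup.mk s : PSL3) ≠ 1 := by
  rw [← QuotientGroup.mk_one, ne_comm, ne_eq, mk_eq_mk_iff]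
  rintro ⟨c, hc⟩
  rcases h with h | h | h <;> apply h <;> rw [hc] <;> simp

/-- A subgroup of type `3 × 3` in `PSL₃` over a field with a cube root of unity. -/
theorem exists_nine_psl3 {w : F} (hw : w * w * w = 1) (hw1 : w ≠ 1) :
    ∃ a b : PSL3, a * b = b * a ∧ orderOf a = 3 ∧ orderOf b = 3 ∧ orderOf (a * b) = 3 ∧
      orderOf (a * a * b) = 3 := by
  haveI : Fact (Nat.Prime 3) := ⟨Nat.prime_three⟩
  have hw0 : w ≠ 0 := fun e => by rw [e, mul_zero] at hw; exact zero_ne_one hw
  obtain ⟨D, hD⟩ : ∃ D : SL3, D.1 = !![1, 0, 0; 0, w, 0; 0, 0, w * w] := ⟨⟨_, by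
    rw [Matrix.det_fin_three]; simp; linear_combination hw⟩, rfl⟩
  obtain ⟨P, hP⟩ : ∃ P : SL3, P.1 = !![0, 1, 0; 0, 0, 1; 1, 0, 0] := ⟨⟨_, by
    rw [Matrix.det_fin_three]; simp⟩, rfl⟩
  have h3 : ∀ s : SL3, s * s * s = 1 → (s.1 0 0 ≠ s.1 1 1 ∨ s.1 0 1 ≠ 0 ∨ s.1 0 2 ≠ 0) →
      orderOf (QuotientGroup.mk s : PSL3) = 3 := fun s hs hne =>
    orderOf_eq_prime (by rw [← QuotientGroup.mk_pow, pow_three', hs, QuotientGroup.mk_one]) (mk3_ne_one hne)
  refine ⟨QuotientGroup.mk D, QuotientGroup.mk P, ?_, h3 D ?_ (Or.inl ?_), h3 P ?_ (Or.inr (Or.inl ?_)), ?_, ?_⟩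
  · rw [← QuotientGroup.mk_mul, ← QuotientGroup.mk_mul, mk_eq_mk_iff]
    refine ⟨w, ?_⟩
    ext i j
    fin_cases i <;> fin_cases j <;>
      simp [hD, hP, Matrix.SpecialLinearGroup.coe_mul, Matrix.mul_apply, Fin.sum_univ_three] <;> linear_combination -hw
  · ext i j
    fin_cases i <;> fin_cases j <;>
      simp [hD, Matrix.SpecialLinearGroup.coe_mul, Matrix.mul_apply, Fin.sum_univ_three, hw] <;> linear_combination (w ^ 3 + 1) * hw
  · simpa [hD] using fun e => hw1 e.symm
  · ext i j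
    fin_cases i <;> fin_cases j <;> simp [hP, Matrix.SpecialLinearGroup.coe_mul, Matrix.mul_apply, Fin.sum_univ_three]
  · simp [hP]
  · rw [← QuotientGroup.mk_mul]
    refine h3 _ ?_ (Or.inr (Or.inl ?_))
    · ext i j
      fin_cases i <;> fin_cases j <;>
        simp [hD, hP, Matrix.SpecialLinearGroup.coe_mul, Matrix.mul_apply, Fin.sum_univ_three, hw0] <;> linear_combination hw
    · simp [hD, hP, Matrix.SpecialLinearGroup.coe_mul, Matrix.mul_apply, Fin.sum_univ_three]
  · rw [← QuotientGroup.mk_mul, ← QuotientGroup.mk_mul]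
    refine h3 _ ?_ (Or.inr (Or.inl ?_))
    · ext i j
      fin_cases i <;> fin_cases j <;>
        simp [hD, hP, Matrix.SpecialLinearGroup.coe_mul, Matrix.mul_apply, Fin.sum_univ_three, hw0] <;> linear_combination (w ^ 3 + 1) * hw
    · simp [hD, hP, Matrix.SpecialLinearGroup.coe_mul, Matrix.mul_apply, Fin.sum_univ_three, hw0]

end ThreeFour

end Cfsg.Agent.Lib.CNReduce32
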