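import Cfsg.Agent.Lib.SzModule.Group

/-!
# Modules on which the elements of order three act without fixed points

Two elements `a`, `b` with `a² + a + 1 = b² + b + 1 = 0` generate an algebra in which `x + x⁻¹`
is central for every element of the group they generate. This gives: no such module for a
simple group generated by `a`, `b` with an element of order four in characteristic two, exponent
two when an involution in `⟨a, b⟩` does not centralise `a`, and no equivariant pairings.

Owner: helper32.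
-/

set_option autoImplicit false
set_option linter.unusedSectionVars false
set_option linter.style.haveILetI false

namespace Cfsg.Agent.Lib.CNReduce32

open Cfsg.Agent.Lib.SzModule (Fpf)

section Ring

variable {R : Type*} [Ring R] {a b z : R}

theorem step_a (ha : a * a = -1 - a) (hba : b * a = z - a * b - a - b)
    (haba : a * b * a = (z + 1) * a + b + 1) (α β γ δ : R) :
    (α + β * a + γ * b + δ * (a * b)) * a =
      (-β + γ * z + δ) + (α - β - γ + δ * (z + 1)) * a + (δ - γ) * b + (-γ) * (a * b) := by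
  calc (α + β * a + γ * b + δ * (a * b)) * a
      = α * a + β * (a * a) + γ * (b * a) + δ * (a * b * a) := by noncomm_ring
    _ = α * a + β * (-1 - a) + γ * (z - a * b - a - b) + δ * ((z + 1) * a + b + 1) := by
        rw [ha, hba, haba]
    _ = _ := by noncomm_ring

theorem step_b (hb : b * b = -1 - b) (α β γ δ : R) :
    (α + β * a + γ * b + δ * (a * b)) * b =
      (-γ) + (-δ) * a + (α - γ) * b + (β - δ) * (a * b) := by
  calc (α + β * a + γ * b + δ * (a * b)) * b
      = α * b + β * (a * b) + γ * (b * b) + δ * (a * (b * b)) := by noncomm_ring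
    _ = α * b + β * (a * b) + γ * (-1 - b) + δ * (a * (-1 - b)) := by rw [hb]
    _ = _ := by noncomm_ring

theorem step_left_a {A B : R} (hA : A * A = -1 - A) (hAB : A * B = z - B * A - A - B)
    (hABA : A * B * A = (z + 1) * A + B + 1) (α β γ δ : R) (c1 : Commute A α) (c2 : Commute A β)
    (c3 : Commute A γ) (c4 : Commute A δ) :
    A * (α + β * A + γ * B + δ * (B * A)) =
      (-β + γ * z + δ) + (α - β - γ + δ * (z + 1)) * A + (δ - γ) * B + (-γ) * (B * A) := by
  calc A * (α + β * A + γ * B + δ * (B * A))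
      = (A * α) + (A * β) * A + (A * γ) * B + (A * δ) * (B * A) := by noncomm_ring
    _ = α * A + β * (A * A) + γ * (A * B) + δ * (A * B * A) := by
        rw [c1.eq, c2.eq, c3.eq, c4.eq]; noncomm_ring
    _ = α * A + β * (-1 - A) + γ * (z - B * A - A - B) + δ * ((z + 1) * A + B + 1) := by
        rw [hA, hABA, hAB]
    _ = _ := by noncomm_ring

theorem step_left_b {A B : R} (hB : B * B = -1 - B) (α β γ δ : R) (c1 : Commute B α) (c2 : Commute B β)
    (c3 : Commute B γ) (c4 : Commute B δ) :
    B * (α + β * A + γ * B + δ * (B * A)) =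
      (-γ) + (-δ) * A + (α - γ) * B + (β - δ) * (B * A) := by
  calc B * (α + β * A + γ * B + δ * (B * A))
      = (B * α) + (B * β) * A + (B * γ) * B + (B * δ) * (B * A) := by noncomm_ring
    _ = α * B + β * (B * A) + γ * (B * B) + δ * ((B * B) * A) := by
        rw [c1.eq, c2.eq, c3.eq, c4.eq]; noncomm_ring
    _ = α * B + β * (B * A) + γ * (-1 - B) + δ * ((-1 - B) * A) := by rw [hB]
    _ = _ := by noncomm_ring

end Ring

/-- In the algebra of two elements with `x² + x + 1 = 0`, sums of an element and its inverse are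
central. -/
theorem add_inv_commute {Γ R : Type*} [Group Γ] [Finite Γ] [Ring R] (ρ : Γ →* R) {a b : Γ}
    (hqa : ρ a * ρ a + ρ a + 1 = 0) (hqb : ρ b * ρ b + ρ b + 1 = 0) {g : Γ}
    (hg : g ∈ Subgroup.closure ({a, b} : Set Γ)) :
    Commute (ρ a) (ρ g + ρ g⁻¹) ∧ Commute (ρ b) (ρ g + ρ g⁻¹) := by
  set x := ρ a with hx
  set y := ρ b with hy
  have hxx : x * x = -1 - x := by rw [← sub_eq_zero, ← hqa]; noncomm_ring
  have hyy : y * y = -1 - y := by rw [← sub_eq_zero, ← hqb]; noncomm_ring
  have hxi : ρ a⁻¹ = -1 - x := by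
    have h3 : x * (-1 - x) = 1 := by rw [mul_sub, mul_neg, mul_one, hxx]; noncomm_ring
    calc ρ a⁻¹ = ρ a⁻¹ * (x * (-1 - x)) := by rw [h3, mul_one]
      _ = -1 - x := by rw [← mul_assoc, hx, ← map_mul, inv_mul_cancel, map_one, one_mul]
  have hyi : ρ b⁻¹ = -1 - y := by
    have h3 : y * (-1 - y) = 1 := by rw [mul_sub, mul_neg, mul_one, hyy]; noncomm_ring
    calc ρ b⁻¹ = ρ b⁻¹ * (y * (-1 - y)) := by rw [h3, mul_one]
      _ = -1 - y := by rw [← mul_assoc, hy, ← map_mul, inv_mul_cancel, map_one, one_mul]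
  set z := x * y + y * x + x + y with hz
  have hzx : Commute x z := by
    show x * z = z * x
    calc x * z = (x * x) * y + x * y * x + x * x + x * y := by rw [hz]; noncomm_ring
      _ = (-1 - x) * y + x * y * x + (-1 - x) + x * y := by rw [hxx]
      _ = x * y * x + y * (-1 - x) + (-1 - x) + y * x := by noncomm_ring
      _ = x * y * x + y * (x * x) + x * x + y * x := by rw [hxx]
      _ = z * x := by rw [hz]; noncomm_ring
  have hzy : Commute y z := by
    show y * z = z * y
    calc y * z = y * x * y + (y * y) * x + y * x + y * y := by rw [hz]; noncomm_ring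
      _ = y * x * y + (-1 - y) * x + y * x + (-1 - y) := by rw [hyy]
      _ = x * (-1 - y) + y * x * y + x * y + (-1 - y) := by noncomm_ring
      _ = x * (y * y) + y * x * y + x * y + y * y := by rw [hyy]
      _ = z * y := by rw [hz]; noncomm_ring
  let C : Subring R := Subring.closure {z}
  have hCx : ∀ c ∈ C, Commute x c := fun c hc => by
    have h' := (Subring.closure_le (t := Subring.centralizer {x})).2 (Set.singleton_subset_iff.2
      (Subring.mem_centralizer_iff.2 fun w hw => by rw [Set.mem_singleton_iff.1 hw]; exact hzx.eq)) hc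
    exact Subring.mem_centralizer_iff.1 h' x rfl
  have hCy : ∀ c ∈ C, Commute y c := fun c hc => by
    have h' := (Subring.closure_le (t := Subring.centralizer {y})).2 (Set.singleton_subset_iff.2
      (Subring.mem_centralizer_iff.2 fun w hw => by rw [Set.mem_singleton_iff.1 hw]; exact hzy.eq)) hc
    exact Subring.mem_centralizer_iff.1 h' y rfl
  have hCi : ∀ u : R, Commute x u → Commute (-1 - x) u := fun u hu =>
    ((Commute.one_left u).neg_left).sub_left hu
  have hCj : ∀ u : R, Commute y u → Commute (-1 - y) u := fun u hu =>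
    ((Commute.one_left u).neg_left).sub_left hu
  have hzC : z ∈ C := Subring.subset_closure rfl
  let X := fun α β γ δ : R => α + β * x + γ * y + δ * (x * y)
  let Y := fun α β γ δ : R => α + β * (-1 - x) + γ * (-1 - y) + δ * ((-1 - y) * (-1 - x))
  have key : ∀ g ∈ Submonoid.closure ({a, b} : Set Γ), ∃ α ∈ C, ∃ β ∈ C, ∃ γ ∈ C, ∃ δ ∈ C,
      ρ g = X α β γ δ ∧ ρ g⁻¹ = Y α β γ δ := by
    intro g hg
    induction hg using Submonoid.closure_induction_right with
    | one => exact ⟨1, one_mem C, 0, zero_mem C, 0, zero_mem C, 0, zero_mem C, by simp [X], by simp [Y]⟩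
    | mul_right w hw s hs ih =>
      obtain ⟨α, hα, β, hβ, γ, hγ, δ, hδ, hX, hY⟩ := ih
      rcases hs with rfl | rfl
      · refine ⟨_, add_mem (add_mem (neg_mem hβ) (mul_mem hγ hzC)) hδ, _,
          add_mem (sub_mem (sub_mem hα hβ) hγ) (mul_mem hδ (add_mem hzC (one_mem C))), _,
          sub_mem hδ hγ, _, neg_mem hγ, ?_, ?_⟩
        · rw [map_mul, hX, ← hx]
          refine step_a hxx (by rw [hz]; noncomm_ring) ?_ α β γ δ
          calc x * y * x = x * (z - x * y - x - y) := by rw [hz]; noncomm_ring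
            _ = x * z - (x * x) * y - x * x - x * y := by noncomm_ring
            _ = z * x - (-1 - x) * y - (-1 - x) - x * y := by rw [hxx, hzx.eq]
            _ = _ := by noncomm_ring
        · rw [mul_inv_rev, map_mul, hY, hxi]
          have e1 : (-1 - x) * (-1 - x) = -1 - (-1 - x) := by
            calc (-1 - x) * (-1 - x) = 1 + x + x + x * x := by noncomm_ring
              _ = 1 + x + x + (-1 - x) := by rw [hxx]
              _ = _ := by noncomm_ring
          have e2 : (-1 - x) * (-1 - y) = z - (-1 - y) * (-1 - x) - (-1 - x) - (-1 - y) := by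
            rw [hz]; noncomm_ring
          refine step_left_a e1 e2 ?_ α β γ δ (hCi _ (hCx _ hα)) (hCi _ (hCx _ hβ)) (hCi _ (hCx _ hγ))
            (hCi _ (hCx _ hδ))
          calc (-1 - x) * (-1 - y) * (-1 - x)
              = (z - (-1 - y) * (-1 - x) - (-1 - x) - (-1 - y)) * (-1 - x) := by rw [← e2]
            _ = z * (-1 - x) - (-1 - y) * ((-1 - x) * (-1 - x)) - (-1 - x) * (-1 - x) -
                (-1 - y) * (-1 - x) := by noncomm_ring
            _ = _ := by rw [e1]; noncomm_ring
      · refine ⟨_, neg_mem hγ, _, neg_mem hδ, _, sub_mem hα hγ, _, sub_mem hβ hδ, ?_, ?_⟩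
        · rw [map_mul, hX, ← hy]
          exact step_b hyy α β γ δ
        · rw [mul_inv_rev, map_mul, hY, hyi]
          have e1 : (-1 - y) * (-1 - y) = -1 - (-1 - y) := by
            calc (-1 - y) * (-1 - y) = 1 + y + y + y * y := by noncomm_ring
              _ = 1 + y + y + (-1 - y) := by rw [hyy]
              _ = _ := by noncomm_ring
          exact step_left_b e1 α β γ δ (hCj _ (hCy _ hα)) (hCj _ (hCy _ hβ)) (hCj _ (hCy _ hγ))
            (hCj _ (hCy _ hδ))
  rw [← Subgroup.mem_toSubmonoid, Subgroup.closure_toSubmonoid_of_finite] at hg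
  obtain ⟨α, hα, β, hβ, γ, hγ, δ, hδ, hX, hY⟩ := key g hg
  have hsum : ρ g + ρ g⁻¹ = α + α - β - γ + δ * (1 + z) := by
    rw [hX, hY]
    simp only [X, Y, hz]
    noncomm_ring
  have hmem : ρ g + ρ g⁻¹ ∈ C := hsum ▸
    add_mem (sub_mem (sub_mem (add_mem hα hα) hβ) hγ) (mul_mem hδ (add_mem (one_mem C) hzC))
  exact ⟨hCx _ hmem, hCy _ hmem⟩

section Rep

variable {S : Type*} [Group S] {M : Type*} [AddCommGroup M] (ρ : S →* AddMonoid.End M)

theorem quad_of_fpf (hfpf : Fpf fun g (v : M) => ρ g v) {a : S} (ha : orderOf a = 3) :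
    ρ a * ρ a + ρ a + 1 = 0 := by
  refine AddMonoidHom.ext fun v => hfpf a 3 Nat.prime_three (by norm_num) ha _ ?_
  show ρ a ((ρ a * ρ a + ρ a + 1) v) = (ρ a * ρ a + ρ a + 1) v
  have h3 : ρ a * ρ a * ρ a = 1 := by
    rw [← map_mul, ← map_mul, ← pow_three', ← ha, pow_orderOf_eq_one, map_one]
  have : ρ a * (ρ a * ρ a + ρ a + 1) = ρ a * ρ a + ρ a + 1 := by
    calc ρ a * (ρ a * ρ a + ρ a + 1) = ρ a * ρ a * ρ a + ρ a * ρ a + ρ a := by noncomm_ring
      _ = _ := by rw [h3]; abel
  exact DFunLike.congr_fun this v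

theorem apply_inv (g : S) (v : M) : ρ g (ρ g⁻¹ v) = v := by
  show (ρ g * ρ g⁻¹) v = v
  rw [← map_mul, mul_inv_cancel, map_one]; rfl

theorem inv_apply (g : S) (v : M) : ρ g⁻¹ (ρ g v) = v := by
  simpa using apply_inv ρ g⁻¹ v

/-- If `g ≠ 1` fixes an invariant subset pointwise, so does every element. -/
theorem fixes_of_simple [IsSimpleGroup S] (K : Set M) (hK : ∀ g, ∀ v ∈ K, ρ g v ∈ K) {g : S} (hg : g ≠ 1)
    (hfix : ∀ v ∈ K, ρ g v = v) (h : S) : ∀ v ∈ K, ρ h v = v := by
  let N : Subgroup S :=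
    { carrier := {x | ∀ v ∈ K, ρ x v = v}
      one_mem' := fun v _ => by simp
      mul_mem' := fun {x y} hx hy v hv => by
        rw [map_mul]; show ρ x (ρ y v) = v; rw [hy v hv, hx v hv]
      inv_mem' := fun {x} hx v hv => by
        conv_lhs => rw [← hx v hv]
        show (ρ x⁻¹ * ρ x) v = v
        rw [← map_mul, inv_mul_cancel, map_one]; rfl }
  have hN : N.Normal := ⟨fun x hx k v hv => by
    rw [map_mul, map_mul]
    show ρ k (ρ x (ρ k⁻¹ v)) = v
    rw [hx _ (hK _ v hv)]
    show (ρ k * ρ k⁻¹) v = v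
    rw [← map_mul, mul_inv_cancel, map_one]; rfl⟩
  rcases hN.eq_bot_or_eq_top with hb | ht
  · exact absurd (Subgroup.mem_bot.1 (hb ▸ (hfix : g ∈ N))) hg
  · exact (ht ▸ Subgroup.mem_top h : h ∈ N)

/-- Exponent two. -/
theorem two_smul_of_four [Finite S] [IsSimpleGroup S] (h4 : ∀ v : M, 4 • v = 0)
    (hfpf : Fpf fun g (v : M) => ρ g v) {a b t : S} (ha : orderOf a = 3) (hb : orderOf b = 3)
    (ht : orderOf t = 2) (htab : t ∈ Subgroup.closure ({a, b} : Set S)) (hne : t * a ≠ a * t) (v : M) :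
    2 • v = 0 := by
  have htt : t⁻¹ = t := inv_eq_of_mul_eq_one_left (by rw [← pow_two, ← ht, pow_orderOf_eq_one])
  have hc := (add_inv_commute ρ (quad_of_fpf ρ hfpf ha) (quad_of_fpf ρ hfpf hb) htab).1
  rw [htt] at hc
  have key : ∀ w : M, ρ ((a * t)⁻¹ * (t * a)) (2 • w) = 2 • w := by
    intro w
    have h1 : ρ (t * a) (2 • w) = ρ (a * t) (2 • w) := by
      rw [map_mul, map_mul]
      have := DFunLike.congr_fun hc.eq w
      show ρ t (ρ a (2 • w)) = ρ a (ρ t (2 • w))
      rw [two_nsmul, map_add, map_add, map_add, map_add]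
      calc ρ t (ρ a w) + ρ t (ρ a w) = ((ρ t + ρ t) * ρ a) w := rfl
        _ = (ρ a * (ρ t + ρ t)) w := this.symm
        _ = _ := by show ρ a (ρ t w + ρ t w) = _; rw [map_add]
    rw [map_mul]
    show ρ (a * t)⁻¹ (ρ (t * a) (2 • w)) = 2 • w
    rw [h1]
    show (ρ (a * t)⁻¹ * ρ (a * t)) (2 • w) = 2 • w
    rw [← map_mul, inv_mul_cancel, map_one]; rfl
  have hfix := fixes_of_simple ρ {x | ∃ w, x = 2 • w}
    (fun g _ ⟨w, hw⟩ => ⟨ρ g w, by rw [hw, map_nsmul]⟩) (g := (a * t)⁻¹ * (t * a))
    (fun e => hne (inv_mul_eq_one.1 e).symm) (fun x ⟨w, hw⟩ => by rw [hw]; exact key w) a (2 • v) ⟨v, rfl⟩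
  have h0 := DFunLike.congr_fun (quad_of_fpf ρ hfpf ha) (2 • v)
  change ρ a (ρ a (2 • v)) + ρ a (2 • v) + 2 • v = 0 at h0
  rw [hfix, hfix, ← add_nsmul, ← add_nsmul, show 2 + 2 + 2 = 2 + 4 from rfl, add_nsmul, h4, add_zero] at h0
  exact h0

/-- A simple group generated by two elements of order three and with an element of order four has
no fixed-point-free module of exponent two. -/
theorem eq_zero_of_four [Finite S] [IsSimpleGroup S] (h2 : ∀ v : M, 2 • v = 0)
    (hfpf : Fpf fun g (v : M) => ρ g v) {a b h : S} (ha : orderOf a = 3) (hb : orderOf b = 3)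
    (hgen : Subgroup.closure ({a, b} : Set S) = ⊤) (hh : orderOf h = 4) (v : M) : v = 0 := by
  have hq := quad_of_fpf ρ hfpf ha
  have hqb := quad_of_fpf ρ hfpf hb
  set T := ρ h + ρ h⁻¹ with hT
  obtain ⟨hTa, hTb⟩ := add_inv_commute ρ hq hqb (hgen ▸ Subgroup.mem_top h)
  have hTall : ∀ g, Commute (ρ g) T := by
    intro g
    have hg : g ∈ Submonoid.closure ({a, b} : Set S) := by
      rw [← Subgroup.closure_toSubmonoid_of_finite, hgen]; exact Subgroup.mem_top g
    induction hg using Submonoid.closure_induction with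
    | mem x hx => rcases hx with rfl | rfl <;> assumption
    | one => rw [map_one]; exact Commute.one_left T
    | mul x y _ _ hx hy => rw [map_mul]; exact hx.mul_left hy
  have hh2 : h * h ≠ 1 := fun e => by
    have := orderOf_dvd_of_pow_eq_one (show h ^ 2 = 1 by rw [pow_two]; exact e)
    rw [hh] at this; norm_num at this
  have hneg : ∀ w : M, -w = w := fun w => neg_eq_of_add_eq_zero_left (by rw [← two_nsmul, h2])
  have hkill : ∀ K : Set M, (∀ g, ∀ w ∈ K, ρ g w ∈ K) → (∀ w ∈ K, T w = 0) → ∀ w ∈ K, w = 0 := by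
    intro K hK hT0 w hw
    have hfix : ∀ x ∈ K, ρ (h * h) x = x := by
      intro x hx
      have h0 := congrArg (ρ h) (hT0 x hx)
      rw [map_zero] at h0
      change ρ h (ρ h x + ρ h⁻¹ x) = 0 at h0
      rw [map_add] at h0
      have e : ρ h (ρ h⁻¹ x) = x := by
        show (ρ h * ρ h⁻¹) x = x
        rw [← map_mul, mul_inv_cancel, map_one]; rfl
      rw [e, add_eq_zero_iff_eq_neg, hneg] at h0
      rw [map_mul]; exact h0
    have ha' := fixes_of_simple ρ K hK hh2 hfix a w hw
    refine hfpf a 3 Nat.prime_three (by norm_num) ha w ha'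
  -- `T` squares to zero
  have hT2 : T * T = 0 := by
    have h2' : (2 : AddMonoid.End M) = 0 := AddMonoidHom.ext fun w => by
      rw [show (2 : AddMonoid.End M) = 1 + 1 from by norm_num]
      show w + w = 0
      rw [← two_nsmul, h2]
    have hinv : ρ h * ρ h⁻¹ = 1 := by rw [← map_mul, mul_inv_cancel, map_one]
    have h4 : ρ h * ρ h * (ρ h * ρ h) = 1 := by
      rw [← map_mul, ← map_mul, ← pow_two, ← pow_two, ← pow_mul, show 2 * 2 = 4 from rfl, ← hh, pow_orderOf_eq_one, map_one]
    have hTh : ρ h * T = ρ h * ρ h + 1 := by rw [hT, mul_add, hinv]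
    have h5 : (ρ h * T) * (ρ h * T) = 0 := by
      rw [hTh]
      calc (ρ h * ρ h + 1) * (ρ h * ρ h + 1) = ρ h * ρ h * (ρ h * ρ h) + 1 + 2 * (ρ h * ρ h) := by noncomm_ring
        _ = 2 := by rw [h4, h2', zero_mul, add_zero, one_add_one_eq_two, h2']
        _ = 0 := h2'
    have h6 : (ρ h * T) * (ρ h * T) = (ρ h * ρ h) * (T * T) := by
      rw [mul_assoc, ← mul_assoc T, ← (hTall h).eq]; simp only [mul_assoc]
    have h7 : ρ h⁻¹ * ρ h⁻¹ * (ρ h * ρ h) = 1 := by
      rw [← map_mul, ← map_mul, ← map_mul, show h⁻¹ * h⁻¹ * (h * h) = 1 by group, map_one]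
    rw [← one_mul (T * T), ← h7, mul_assoc, ← h6, h5, mul_zero]
  by_cases hT0 : ∀ w, T w = 0
  · exact hkill Set.univ (fun _ _ _ => Set.mem_univ _) (fun w _ => hT0 w) v (Set.mem_univ v)
  · refine absurd (fun w => hkill {x | ∃ w, x = T w} ?_ ?_ (T w) ⟨w, rfl⟩) hT0
    · rintro g _ ⟨w, rfl⟩
      exact ⟨ρ g w, DFunLike.congr_fun (hTall g).eq w⟩
    · rintro _ ⟨w, rfl⟩
      exact DFunLike.congr_fun hT2 w

/-- An elementary abelian group of order nine has no fixed-point-free module of `2`-power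
exponent. -/
theorem eq_zero_of_nine (hfpf : Fpf fun g (v : M) => ρ g v) {a b : S} (hab : a * b = b * a)
    (h1 : orderOf a = 3) (h2 : orderOf b = 3) (h3 : orderOf (a * b) = 3) (h4 : orderOf (a * a * b) = 3)
    (v : M) (hv : ∃ k : ℕ, 2 ^ k • v = 0) : v = 0 := by
  have hA := quad_of_fpf ρ hfpf h1
  have hB := quad_of_fpf ρ hfpf h2
  have hC := quad_of_fpf ρ hfpf h3
  have hD := quad_of_fpf ρ hfpf h4
  rw [map_mul] at hC
  rw [map_mul, map_mul] at hD
  set A := ρ a
  set B := ρ b
  have hAB : B * A = A * B := by rw [← map_mul, ← map_mul, hab]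
  have hA3 : A * A * A = 1 := by
    rw [← map_mul, ← map_mul, ← pow_three', ← h1, pow_orderOf_eq_one, map_one]
  have e1 : (A * B) * (A * B) = A * A * (B * B) := by
    rw [mul_assoc, ← mul_assoc B, hAB]; simp only [mul_assoc]
  have hAB' : ∀ u, B * (A * u) = A * (B * u) := fun u => by rw [← mul_assoc, hAB, mul_assoc]
  have hA3' : ∀ u, A * (A * (A * u)) = u := fun u => by rw [← mul_assoc, ← mul_assoc, hA3, one_mul]
  have e2 : (A * A * B) * (A * A * B) = A * (B * B) := by
    simp only [mul_assoc, hAB', hA3']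
  rw [e1] at hC
  rw [e2] at hD
  have h3 : (1 + 1 + 1 : AddMonoid.End M) = 0 := by
    calc (1 + 1 + 1 : AddMonoid.End M) = (A * A + A + 1) + (B * B + B + 1) + (A * A * (B * B) + A * B + 1)
          + (A * (B * B) + A * A * B + 1) - (A * A + A + 1) * (B * B + B + 1) := by noncomm_ring
      _ = 0 := by rw [hA, hB, hC, hD]; simp
  obtain ⟨k, hk⟩ := hv
  have h3v : 3 • v = 0 := by
    have := DFunLike.congr_fun h3 v
    change v + v + v = 0 at this
    rw [succ_nsmul, two_nsmul]; exact this
  have hd : addOrderOf v ∣ Nat.gcd 3 (2 ^ k) :=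
    Nat.dvd_gcd (addOrderOf_dvd_of_nsmul_eq_zero h3v) (addOrderOf_dvd_of_nsmul_eq_zero hk)
  rw [Nat.Coprime.gcd_eq_one (Nat.Coprime.pow_right k (by norm_num))] at hd
  exact AddMonoid.addOrderOf_eq_one_iff.1 (Nat.dvd_one.1 hd)

end Rep

/-- No equivariant pairings over a simple group with an element of order three. -/
theorem pairing_zero {S : Type*} [Group S] [Finite S] [IsSimpleGroup S] (hS : ∃ x y : S, x * y ≠ y * x)
    {a : S} (ha : orderOf a = 3) {A B C : Type*} [AddCommGroup A] [AddCommGroup B] [AddCommGroup C]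
    (hA : ∀ u : A, 2 • u = 0) (hB : ∀ u : B, 2 • u = 0) (hC : ∀ u : C, 2 • u = 0)
    (ρA : S →* AddMonoid.End A) (ρB : S →* AddMonoid.End B) (ρC : S →* AddMonoid.End C)
    (fA : Fpf fun g (v : A) => ρA g v) (fB : Fpf fun g (v : B) => ρB g v) (fC : Fpf fun g (v : C) => ρC g v)
    (c : A →+ B →+ C) (hc : ∀ g x y, c (ρA g x) (ρB g y) = ρC g (c x y)) : ∀ x y, c x y = 0 := by
  have dA : ∀ u : A, u + u = 0 := fun u => by rw [← two_nsmul, hA]
  have dB : ∀ u : B, u + u = 0 := fun u => by rw [← two_nsmul, hB]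
  have dC : ∀ u : C, u + u = 0 := fun u => by rw [← two_nsmul, hC]
  have hsymm : ∀ t : S, orderOf t = 3 → ∀ u v, c (ρA t u) v = c u (ρB t v) := by
    intro t ht u v
    have qA : ρA t (ρA t u) = ρA t u + u := by
      have := DFunLike.congr_fun (quad_of_fpf ρA fA ht) u
      change ρA t (ρA t u) + ρA t u + u = 0 at this
      rw [add_assoc, add_eq_zero_iff_eq_neg] at this
      rw [this]; exact neg_eq_of_add_eq_zero_left (dA _)
    have qB : ρB t (ρB t v) = ρB t v + v := by
      have := DFunLike.congr_fun (quad_of_fpf ρB fB ht) v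
      change ρB t (ρB t v) + ρB t v + v = 0 at this
      rw [add_assoc, add_eq_zero_iff_eq_neg] at this
      rw [this]; exact neg_eq_of_add_eq_zero_left (dB _)
    have qC : ρC t (ρC t (c u v)) + ρC t (c u v) + c u v = 0 :=
      DFunLike.congr_fun (quad_of_fpf ρC fC ht) (c u v)
    rw [← hc, ← hc, qA, qB] at qC
    simp only [map_add, AddMonoidHom.add_apply] at qC
    have hsum : c (ρA t u) v + c u (ρB t v) = 0 := by
      calc c (ρA t u) v + c u (ρB t v)
          = c (ρA t u) v + c u (ρB t v) + (c (ρA t u) (ρB t v) + c (ρA t u) (ρB t v)) +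
              (c u v + c u v) := by rw [dC, dC, add_zero, add_zero]
        _ = _ := by rw [← qC]; abel
    rw [add_eq_zero_iff_eq_neg] at hsum
    rw [hsum]; exact neg_eq_of_add_eq_zero_left (dC _)
  have hshift : ∀ g u v, c (ρA g u) v = ρC g (c u (ρB g⁻¹ v)) := fun g u v => by
    rw [← hc]; congr 1
    show v = (ρB g * ρB g⁻¹) v
    rw [← map_mul, mul_inv_cancel, map_one]; rfl
  let N : Subgroup S :=
    { carrier := {g | ∀ u v, c u (ρB g v) = c u v}
      one_mem' := fun u v => by simp
      mul_mem' := fun {g k} hg hk u v => by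
        rw [map_mul]; show c u (ρB g (ρB k v)) = c u v; rw [hg, hk]
      inv_mem' := fun {g} hg u v => by
        rw [← hg u (ρB g⁻¹ v)]
        show c u ((ρB g * ρB g⁻¹) v) = c u v
        rw [← map_mul, mul_inv_cancel, map_one]; rfl }
  have hN : N.Normal := ⟨fun g hg k u v => by
    have e : ∀ w, c u (ρB k w) = ρC k (c (ρA k⁻¹ u) w) := fun w => by
      rw [← hc, apply_inv]
    rw [map_mul, map_mul]
    show c u (ρB k (ρB g (ρB k⁻¹ v))) = c u v
    rw [e, hg, ← e]
    show c u ((ρB k * ρB k⁻¹) v) = c u v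
    rw [← map_mul, mul_inv_cancel, map_one]; rfl⟩
  intro x y
  rcases hN.eq_bot_or_eq_top with hb | ht
  swap
  · have haN : a ∈ N := ht ▸ Subgroup.mem_top a
    have q := DFunLike.congr_fun (quad_of_fpf ρB fB ha) y
    change ρB a (ρB a y) + ρB a y + y = 0 at q
    have := congrArg (c x) q
    rw [map_zero, map_add, map_add, haN, haN, dC, zero_add] at this
    exact this
  exfalso
  let R : S → S → Prop := fun g k => ∀ u v, c (ρA g u) v = c u (ρB k v)
  have huniq : ∀ g k k', R g k → R g k' → k = k' := by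
    intro g k k' h h'
    have hm : k'⁻¹ * k ∈ N → k'⁻¹ * k = 1 := fun h => Subgroup.mem_bot.1 (hb ▸ h)
    refine (inv_mul_eq_one.1 (hm fun u v => ?_)).symm
    -- compare the two partners
    have e1 : ∀ w, c (ρA g u) w = c u (ρB k w) := h u
    have e2 : ∀ w, c (ρA g u) w = c u (ρB k' w) := h' u
    have e3 : ∀ u' w, c u' (ρB k w) = c u' (ρB k' w) := fun u' w => by rw [← h, h']
    have e4 : c u (ρB (k'⁻¹ * k) v) = ρC k'⁻¹ (c (ρA k' u) (ρB k v)) := by
      rw [← hc, map_mul, inv_apply]; rfl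
    rw [e4, e3, ← hc, inv_apply, inv_apply]
  have hmul : ∀ g k g' k', R g k → R g' k' → R (g * g') (k' * k) := fun g k g' k' h h' u v => by
    rw [map_mul, map_mul]
    show c (ρA g (ρA g' u)) v = c u (ρB k' (ρB k v))
    rw [h, h']
  let Tset : Set S := {t | orderOf t = 3}
  have hgen : Subgroup.closure Tset = ⊤ := by
    have hn : (Subgroup.closure Tset).Normal := ⟨fun x hx k => by
      have hle : (Subgroup.closure Tset).map (MulAut.conj k).toMonoidHom ≤ Subgroup.closure Tset := by
        rw [MonoidHom.map_closure, Subgroup.closure_le]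
        rintro _ ⟨t, ht, rfl⟩
        exact Subgroup.subset_closure (show orderOf (MulAut.conj k t) = 3 by rw [MulEquiv.orderOf_eq]; exact ht)
      exact hle ⟨x, hx, rfl⟩⟩
    refine hn.eq_bot_or_eq_top.resolve_left fun e => ?_
    have : a ∈ Subgroup.closure Tset := Subgroup.subset_closure ha
    rw [e, Subgroup.mem_bot] at this
    rw [this, orderOf_one] at ha; omega
  have hex : ∀ g, ∃ k, R g k := by
    intro g
    have hg : g ∈ Submonoid.closure Tset := by
      rw [← Subgroup.closure_toSubmonoid_of_finite, hgen]; exact Subgroup.mem_top g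
    induction hg using Submonoid.closure_induction with
    | mem t ht => exact ⟨t, hsymm t ht⟩
    | one => exact ⟨1, fun u v => by simp⟩
    | mul g g' _ _ h h' =>
      obtain ⟨k, hk⟩ := h
      obtain ⟨k', hk'⟩ := h'
      exact ⟨_, hmul _ _ _ _ hk hk'⟩
  choose φ hφ using hex
  have hφm : ∀ g g', φ (g * g') = φ g' * φ g := fun g g' =>
    huniq _ _ _ (hφ _) (hmul _ _ _ _ (hφ g) (hφ g'))
  have hφT : ∀ t, orderOf t = 3 → φ t = t := fun t ht => huniq _ _ _ (hφ t) (hsymm t ht)
  have hφ1 : φ 1 = 1 := huniq _ _ _ (hφ 1) (fun u v => by simp)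
  -- the partner of `g` is `g⁻¹`
  have hcen : ∀ g, φ g = g⁻¹ := by
    intro g
    have hinv : φ g⁻¹ = (φ g)⁻¹ := eq_inv_of_mul_eq_one_left (by rw [← hφm, mul_inv_cancel, hφ1])
    have hcomm : ∀ t ∈ Tset, t * (φ g * g) = (φ g * g) * t := by
      intro t ht
      have hb' : orderOf (g * t * g⁻¹) = 3 := by
        rw [← MulAut.conj_apply, MulEquiv.orderOf_eq]; exact ht
      have := hφT _ hb'
      rw [hφm, hφm, hφT t ht, hinv] at this
      calc t * (φ g * g) = φ g * ((φ g)⁻¹ * (t * φ g)) * g := by group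
        _ = φ g * (g * t * g⁻¹) * g := by rw [this]
        _ = _ := by group
    have hz : φ g * g ∈ Subgroup.center S := by
      refine Subgroup.mem_center_iff.2 fun s => ?_
      have hle : Subgroup.closure Tset ≤ Subgroup.centralizer {φ g * g} :=
        (Subgroup.closure_le _).2 fun t ht => Subgroup.mem_centralizer_singleton_iff.2 (hcomm t ht)
      exact Subgroup.mem_centralizer_singleton_iff.1 (hle (hgen ▸ Subgroup.mem_top s))
    rcases (inferInstance : (Subgroup.center S).Normal).eq_bot_or_eq_top with e | e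
    · rw [e, Subgroup.mem_bot] at hz; exact eq_inv_of_mul_eq_one_left hz
    · obtain ⟨p, q, hpq⟩ := hS
      exact absurd (Subgroup.mem_center_iff.1 (e ▸ Subgroup.mem_top q) p) hpq
  have := (hcen a).symm.trans (hφT a ha)
  have h2 : a ^ 2 = 1 := by rw [pow_two]; conv_lhs => arg 1; rw [← this]
                            exact inv_mul_cancel a
  have := orderOf_dvd_of_pow_eq_one h2
  rw [ha] at this; norm_num at this

end Cfsg.Agent.Lib.CNReduce32
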